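import Cfsg.Agent.OddChar.TypeP.Noncoherent.Basic
import Cfsg.Agent.OddChar.TypeOne.Gap.Basic

/-!
# The restriction of `τ₁ ζ` to `M' - 1` (Peterfalvi 7.7 for `M_s = M'`)
-/

set_option autoImplicit false
set_option linter.unusedSectionVars false
set_option linter.style.haveILetI false

namespace Cfsg.Agent.OddChar.TypeP.Noncoherent

open Cfsg Subgroup
open Cfsg.Agent.Characters
open scoped ComplexConjugate

universe u

/-- A class function whose inner products with the non-trivial irreducibles are proportional to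
their degrees is constant off `1`. -/
theorem const_of_prop_degree {K : Type u} [Group K] [Fintype K] {f : K → ℂ}
    (hf : IsClassFunction K f) (y : ℂ)
    (h : ∀ θ : K → ℂ, IsIrrCharacter K θ → θ ≠ (fun _ => 1) → classInner f θ = θ 1 * y) :
    ∃ c : ℂ, ∀ a : K, a ≠ 1 → f a = c := by
  classical
  set x := classInner f (fun _ => 1)
  set r : K → ℂ := fun a => if a = 1 then (Nat.card K : ℂ) else 0 with hr
  have hrθ : ∀ θ : K → ℂ, IsIrrCharacter K θ → classInner r θ = θ 1 := by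
    intro θ hθ
    obtain ⟨k, -, hk⟩ := irr_one_pos hθ
    rw [classInner_def, Finset.sum_eq_single (1 : K) (fun b _ hb => by simp [hr, hb]) (by simp)]
    simp only [hr, if_pos, hk, Complex.conj_natCast]
    rw [inv_mul_cancel_left₀ natCard_ne_zero]
  set g : K → ℂ := y • (r - fun _ => 1) + x • fun _ => 1 with hg
  have hrc : IsClassFunction K r := fun a b => by simp [hr, conj_eq_one_iff]
  have hgc : IsClassFunction K g := fun a b => by simp [hg, hrc a b]
  have he : f = g := by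
    refine classFun_ext hf hgc fun θ hθ => ?_
    rw [hg, classInner_add_left, classInner_smul_left, classInner_smul_left, classInner_sub_left,
      hrθ θ hθ]
    by_cases h1 : θ = fun _ => 1
    · subst h1
      rw [classInner_isIrr_self hθ]
      simp [x]
    · rw [h θ hθ h1, classInner_isIrr_ne isIrrCharacter_one hθ (Ne.symm h1), sub_zero, mul_zero,
        add_zero, mul_comm]
  exact ⟨x - y, fun a ha => by rw [he, hg]; simp [hr, ha]; ring⟩

variable {G : Type u} [Group G] [Fintype G] {M W₁ U W₂ : Subgroup G} [Fintype M]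
  {η : (↥(W₁ ⊔ W₂) →* ℂˣ) → G → ℂ} {μ : (↥(W₁ ⊔ W₂) →* ℂˣ) → ↥M → ℂ}
  {δ : (↥(W₁ ⊔ W₂) →* ℂˣ) → ℂ} {R : (↥M → ℂ) → Finset (G → ℂ)} {d : ℕ} {ε n : ℤ}
variable (c : Ctx M W₁ U W₂ η μ δ R d ε n)
include c

variable {τ₁ : (↥M → ℂ) → G → ℂ} (h1 : IsLinearIsometryOn (zspan (calS M)) τ₁)
  (hag : ∀ α ∈ zspanOn (calS M) {1}ᶜ, τ₁ α = tau M α)
  {ζ : ↥M → ℂ} (hζ : ζ ∈ calS M) (hζ1 : ζ 1 = (Nat.card W₁ : ℂ))
include h1 hag hζ hζ1

theorem Ctx.rho_const : ∃ b : ℂ, ∀ a : M, a ∈ derivedIn M → a ≠ 1 → τ₁ ζ a = ζ a + b := by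
  classical
  have hκ := kappa_nonempty_of_typeP c.hG c.hM c.hP
  have hzc := isGen_isClassFunction (h1.2.2.2 _ (Isometry.mem_zS hζ))
  set D : M → ℂ := fun a => if a ∈ derivedIn M ∧ a ≠ 1 then τ₁ ζ a - ζ a else 0 with hD
  have hDc : IsClassFunction M D := by
    intro a b
    have hiff : b * a * b⁻¹ ∈ derivedIn M ↔ a ∈ derivedIn M :=
      ⟨fun h => by simpa [mul_assoc] using (derivedIn_normal M).conj_mem _ h b⁻¹,
        fun h => (derivedIn_normal M).conj_mem _ h b⟩
    simp only [hD, hiff, ne_eq, conj_eq_one_iff, (c.member hζ).2.1 a b]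
    rw [show ((b * a * b⁻¹ : M) : G) = (b : G) * a * (b : G)⁻¹ from rfl, hzc (a : G) (b : G)]
  have hbeta : ∀ β ∈ zspanOn (calS M) {1}ᶜ, classInner β D = 0 := by
    intro β hβ
    have hoff : ∀ x : M, x ∉ derivedIn M ∨ x = 1 → β x = 0 := by
      rintro x (h | rfl)
      · exact (c.span hβ.1).2.2 x h
      · exact Isometry.apply_one_eq_zero hβ
    have e1 : classInner β (fun a : M => TypeOne.Gap.rho (supportR M) (τ₁ ζ) a) =
        classInner β ζ := by
      rw [← TypeOne.Gap.inner_rho c.dade (c.span hβ.1).2.1 (fun x hx => c.supp₀ hβ hx) hzc,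
        ← show tau M β = dadeIsometry (typeA0 M) M (supportR M) β from rfl, ← hag β hβ,
        h1.2.2.1 _ hβ.1 _ (Isometry.mem_zS hζ)]
    have e2 : classInner β D =
        classInner β (fun a : M => TypeOne.Gap.rho (supportR M) (τ₁ ζ) a) - classInner β ζ := by
      rw [classInner_def, classInner_def, classInner_def, ← mul_sub, ← Finset.sum_sub_distrib]
      congr 1
      refine Finset.sum_congr rfl fun x _ => ?_
      by_cases hx : x ∈ derivedIn M ∧ x ≠ 1
      · have hA : (x : G) ∈ typeA0 M := Or.inl (by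
          rw [typeA_eq_core c.hP c.hG c.hM c.hcore]
          exact ⟨hx.1, fun e => hx.2 (Subtype.ext e)⟩)
        rw [TypeOne.Gap.rho_of_bot (supportR_eq_bot c.hG c.hM hκ hA), hD]
        simp only [if_pos hx, map_sub]
        ring
      · have : β x = 0 := hoff x (by tauto)
        simp [this]
    rw [e2, e1, sub_self]
  set y := classInner ζ D
  set f : derivedIn M → ℂ := fun a => D a with hf
  have hfc : IsClassFunction ↥(derivedIn M) f := classFun_restrict _ hDc
  obtain ⟨w0, hw0⟩ : ∃ w0 : ℂ, w0 = (Nat.card W₁ : ℂ) := ⟨_, rfl⟩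
  obtain ⟨b, hb⟩ := const_of_prop_degree hfc (conj y) fun θ hθ hθ1 => by
    have hmem : indFun (derivedIn M) θ ∈ calS M := by
      rw [calS_eq_above c.hcore]
      exact ⟨θ, hθ, hθ1, fun a ha => by rw [show a = 1 from Subtype.ext (mem_bot.mp ha)], rfl⟩
    obtain ⟨k, -, hk⟩ := irr_one_pos hθ
    have hβ : (k : ℤ) • ζ - indFun (derivedIn M) θ ∈ zspanOn (calS M) {1}ᶜ :=
      Isometry.mem_zspanOn_compl_one
        (Submodule.sub_mem _ (Submodule.smul_mem _ _ (Isometry.mem_zS hζ)) (Isometry.mem_zS hmem))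
        (by rw [Pi.sub_apply, Pi.smul_apply, hζ1, indFun_one, index_derivedIn c.hP, hk,
          zsmul_eq_mul, Int.cast_natCast, mul_comm, sub_self])
    have h0 := hbeta _ hβ
    rw [classInner_sub_left, Coherence.inner_smul_int_left, frobenius_reciprocity _ _ hDc,
      sub_eq_zero, Int.cast_natCast] at h0
    rw [classInner_conj_symm θ, show classInner θ f = (k : ℂ) * y from h0.symm, map_mul, hk,
      Complex.conj_natCast]
  refine ⟨b, fun a ha ha1 => ?_⟩
  have h := hb ⟨a, ha⟩ fun e => ha1 (congrArg Subtype.val e)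
  simp only [hf, hD, if_pos (And.intro ha ha1)] at h
  rw [← h]
  ring

open Classical in
/-- The part of the norm of `τ₁ ζ` seen on `M' - 1`. -/
theorem Ctx.rho_norm (hζi : IsIrrCharacter ↥M ζ) :
    (Nat.card M : ℝ) - (Nat.card W₁ : ℝ) ^ 2 -
        (Nat.card W₁ : ℝ) ^ 2 / ((Nat.card (⁅M, M⁆ : Subgroup G) : ℝ) - 1) ≤
      ∑ a ∈ Finset.univ.filter (fun a : M => a ∈ derivedIn M ∧ a ≠ 1), ‖τ₁ ζ a‖ ^ 2 := by
  obtain ⟨b, hb⟩ := c.rho_const h1 hag hζ hζ1
  set s := Finset.univ.filter (fun a : M => a ∈ derivedIn M ∧ a ≠ 1) with hs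
  set w := (Nat.card W₁ : ℝ) with hw
  rw [Finset.sum_congr rfl fun a ha => by
    rw [hb a (Finset.mem_filter.1 ha).2.1 (Finset.mem_filter.1 ha).2.2]]
  have hins : insert 1 s = Finset.univ.filter (fun a : M => a ∈ derivedIn M) := by
    ext a
    simp only [hs, Finset.mem_insert, Finset.mem_filter, Finset.mem_univ, true_and]
    constructor
    · rintro (rfl | h)
      exacts [one_mem _, h.1]
    · intro h
      by_cases e : a = 1
      exacts [Or.inl e, Or.inr ⟨h, e⟩]
  have h1s : (1 : M) ∉ s := by simp [hs]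
  have hvan : ∀ x, x ∉ derivedIn M → ζ x = 0 := (c.member hζ).2.2
  have hS2 : ∑ a ∈ s, ‖ζ a‖ ^ 2 = (Nat.card M : ℝ) - w ^ 2 := by
    have h2 := classInner_isIrr_self hζi
    rw [Coherence.self_eq] at h2
    have h3 : (Nat.card M : ℝ)⁻¹ * ∑ a : M, ‖ζ a‖ ^ 2 = 1 := by exact_mod_cast h2
    rw [inv_mul_eq_one₀ (Nat.cast_ne_zero.2 Nat.card_pos.ne')] at h3
    rw [h3, ← Finset.sum_subset (Finset.subset_univ (insert 1 s)) fun x _ hx => by
      rw [hins] at hx; rw [hvan x fun h => hx (Finset.mem_filter.2 ⟨Finset.mem_univ _, h⟩)]; simp,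
      Finset.sum_insert h1s, hζ1, Complex.norm_natCast, hw]
    ring
  have hS1 : ∑ a ∈ s, ζ a = -(Nat.card W₁ : ℂ) := by
    have hne : ζ ≠ fun _ => 1 := fun e => by
      have h3 : (1 : ℂ) = (Nat.card W₁ : ℂ) := by rw [← hζ1, e]
      have h4 : 1 = Nat.card W₁ := by exact_mod_cast h3
      exact c.hP.W₁_ne (card_eq_one.mp h4.symm)
    have h2 := classInner_isIrr_ne hζi isIrrCharacter_one hne
    rw [classInner_def] at h2
    simp only [map_one, mul_one, mul_eq_zero, inv_eq_zero, natCard_ne_zero, false_or] at h2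
    rw [← Finset.sum_subset (Finset.subset_univ (insert 1 s)) fun x _ hx => by
      rw [hins] at hx; exact hvan x fun h => hx (Finset.mem_filter.2 ⟨Finset.mem_univ _, h⟩),
      Finset.sum_insert h1s, hζ1] at h2
    linear_combination h2
  have hcard : (s.card : ℝ) = (Nat.card (⁅M, M⁆ : Subgroup G) : ℝ) - 1 := by
    have h2 := congrArg Finset.card hins
    rw [Finset.card_insert_of_notMem h1s] at h2
    have h3 : (Finset.univ.filter (fun a : M => a ∈ derivedIn M)).card =
        Nat.card (⁅M, M⁆ : Subgroup G) := by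
      rw [← card_derivedIn, Nat.subtype_card]
      intro x; simp
    rw [h3] at h2
    rw [← h2]
    push_cast
    ring
  have hexp : ∑ a ∈ s, ‖ζ a + b‖ ^ 2 =
      ∑ a ∈ s, ‖ζ a‖ ^ 2 + 2 * ((∑ a ∈ s, ζ a) * conj b).re + (s.card : ℝ) * ‖b‖ ^ 2 := by
    rw [Finset.sum_mul, Complex.re_sum, Finset.mul_sum, ← nsmul_eq_mul, ← Finset.sum_const,
      ← Finset.sum_add_distrib, ← Finset.sum_add_distrib]
    refine Finset.sum_congr rfl fun a _ => ?_
    rw [← Complex.normSq_eq_norm_sq, ← Complex.normSq_eq_norm_sq, ← Complex.normSq_eq_norm_sq,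
      Complex.normSq_add]
    ring
  rw [hexp, hS1, hS2, hcard]
  have hh : (0 : ℝ) < (Nat.card (⁅M, M⁆ : Subgroup G) : ℝ) - 1 := by
    have h2 : 1 < Nat.card (⁅M, M⁆ : Subgroup G) := (one_lt_card_iff_ne_bot _).2 fun e =>
      c.hP.selfNormalizing.2.1 (le_bot_iff.mp (e ▸ W₂_le_derived c.hP))
    have : (1 : ℝ) < (Nat.card (⁅M, M⁆ : Subgroup G) : ℝ) := by exact_mod_cast h2
    linarith
  set m := (Nat.card (⁅M, M⁆ : Subgroup G) : ℝ) - 1
  have hre : ((-(Nat.card W₁ : ℂ)) * conj b).re = -w * b.re := by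
    simp [hw]
  rw [hre]
  have hb2 : b.re ^ 2 ≤ ‖b‖ ^ 2 := by
    rw [← Complex.normSq_eq_norm_sq, Complex.normSq_apply]
    nlinarith [mul_self_nonneg b.im]
  have hfin : -(w ^ 2 / m) ≤ 2 * (-w * b.re) + m * b.re ^ 2 := by
    have : 0 ≤ (m * b.re - w) ^ 2 / m := by positivity
    have e : (m * b.re - w) ^ 2 / m = 2 * (-w * b.re) + m * b.re ^ 2 + w ^ 2 / m := by
      field_simp
      ring
    linarith
  nlinarith [mul_le_mul_of_nonneg_left hb2 hh.le]

end Cfsg.Agent.OddChar.TypeP.Noncoherent
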