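import Cfsg.Agent.Lib.Characters.Galois
import Cfsg.Agent.Lib.Characters.Induction
import Cfsg.Agent.Lib.Characters.Kernel

/-!
# Mean squares of generalized characters on unions of cosets
-/

set_option autoImplicit false
set_option linter.style.haveILetI false

namespace Cfsg.Agent.OddChar.TypeP.Noncoherent

open Cfsg.Agent.Characters Polynomial
open scoped ComplexConjugate

universe u

/-- An exponent prime to a divisor lifts to one prime to the multiple. -/
theorem exists_coprime_modEq {n m k : ℕ} (hn : n ≠ 0) (hm : m ∣ n) (hk : k.Coprime m) :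
    ∃ k', k'.Coprime n ∧ k' ≡ k [MOD m] := by
  haveI : NeZero n := ⟨hn⟩
  haveI : NeZero m := ⟨ne_zero_of_dvd_ne_zero hn hm⟩
  obtain ⟨v, hv⟩ := ZMod.unitsMap_surjective hm (ZMod.unitOfCoprime k hk)
  refine ⟨(v : ZMod n).val, ZMod.val_coe_unit_coprime v, ?_⟩
  rw [← ZMod.natCast_eq_natCast_iff]
  have h1 := congrArg (fun w : (ZMod m)ˣ => (w : ZMod m)) hv
  simp only [ZMod.unitsMap_def, Units.coe_map, ZMod.coe_unitOfCoprime] at h1
  rw [← h1]
  simp [ZMod.natCast_val]

/-- On a set closed under powers prime to the order, where a generalized character does not vanish,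
the mean of its absolute value is at least one. -/
theorem card_le_sum_norm_gen {X : Type u} [Group X] [Finite X] {F : X → ℂ}
    (hF : Cfsg.IsGeneralizedCharacter X F) (S : Finset X)
    (hS : ∀ g ∈ S, ∀ k : ℕ, k.Coprime (Nat.card X) → g ^ k ∈ S) (hne : ∀ g ∈ S, F g ≠ 0) :
    (S.card : ℝ) ≤ ∑ g ∈ S, ‖F g‖ := by
  classical
  obtain ⟨a, b, ⟨na, ρ, rfl⟩, ⟨nb, σ, rfl⟩, rfl⟩ := hF
  set M := Nat.card X with hMdef
  have hM : 0 < M := Nat.card_pos
  set ζ := Complex.exp (2 * Real.pi * Complex.I / M)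
  have hζ : IsPrimitiveRoot ζ M := Complex.isPrimitiveRoot_exp M hM.ne'
  haveI : NeZero M := ⟨hM.ne'⟩
  have hR : ∀ μ ∈ primitiveRoots M ℂ, ∃ k, k.Coprime M ∧ ζ ^ k = μ := fun μ hμ => by
    obtain ⟨k, _, hk, hk'⟩ := (hζ.isPrimitiveRoot_iff (ξ := μ) (k := M)).1
      ((mem_primitiveRoots hM).1 hμ)
    exact ⟨k, hk, hk'⟩
  choose! k hk hk' using hR
  set F := ρ.character - σ.character with hFdef
  have hswap : ∀ μ ∈ primitiveRoots M ℂ, ∑ g ∈ S, ‖F (g ^ k μ)‖ = ∑ g ∈ S, ‖F g‖ := by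
    intro μ hμ
    have himg : S.image (powCoprime (G := X) (hk μ hμ).symm) = S := by
      refine Finset.eq_of_subset_of_card_le (fun x hx => ?_) ?_
      · obtain ⟨g, hg, rfl⟩ := Finset.mem_image.1 hx
        simpa using hS g hg (k μ) (hk μ hμ)
      · rw [Finset.card_image_of_injective _ (Equiv.injective _)]
    conv_rhs => rw [← himg]
    rw [Finset.sum_image ((Equiv.injective _).injOn)]
    exact Finset.sum_congr rfl fun g _ => by simp
  have hge : ∀ g ∈ S, ((primitiveRoots M ℂ).card : ℝ) ≤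
      ∑ μ ∈ primitiveRoots M ℂ, ‖F (g ^ k μ)‖ := by
    intro g hg
    obtain ⟨P₁, hP₁⟩ := exists_poly_values ρ g hM pow_card_eq_one' hζ
    obtain ⟨P₂, hP₂⟩ := exists_poly_values σ g hM pow_card_eq_one' hζ
    have hval : ∀ μ ∈ primitiveRoots M ℂ, F (g ^ k μ) = aeval μ (P₁ - P₂) := fun μ hμ => by
      rw [map_sub, hFdef, Pi.sub_apply, hP₁, hP₂, hk' μ hμ]
    have hnz : ∀ μ ∈ primitiveRoots M ℂ, aeval μ (P₁ - P₂) ≠ 0 := fun μ hμ =>
      hval μ hμ ▸ hne _ (hS g hg _ (hk μ hμ))
    have hprod := one_le_prod_norm_primitiveRoots hM (P₁ - P₂)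
      (fun μ hμ => hval μ hμ ▸ (rep_value_isIntegral ρ _).sub (rep_value_isIntegral σ _)) hnz
    have hpos : ∀ μ ∈ primitiveRoots M ℂ, 0 < ‖aeval μ (P₁ - P₂)‖ := fun μ hμ =>
      norm_pos_iff.2 (hnz μ hμ)
    have hlog : 0 ≤ ∑ μ ∈ primitiveRoots M ℂ, Real.log ‖aeval μ (P₁ - P₂)‖ := by
      rw [← Real.log_prod (fun μ hμ => (hpos μ hμ).ne')]
      exact Real.log_nonneg hprod
    have h2 := hlog.trans (Finset.sum_le_sum fun μ hμ => Real.log_le_sub_one_of_pos (hpos μ hμ))
    rw [Finset.sum_sub_distrib, sub_nonneg, Finset.sum_const, nsmul_one] at h2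
    exact h2.trans_eq (Finset.sum_congr rfl fun μ hμ => by rw [hval μ hμ])
  have h1 := Finset.sum_le_sum hge
  rw [Finset.sum_comm, Finset.sum_congr rfl hswap, Finset.sum_const, Finset.sum_const,
    nsmul_eq_mul, nsmul_eq_mul, mul_comm] at h1
  exact le_of_mul_le_mul_left h1
    (by exact_mod_cast Finset.card_pos.2 ⟨ζ, (mem_primitiveRoots hM).2 hζ⟩)

/-- On a union of cosets of a normal subgroup, closed under powers prime to the index, with a
non-zero value in each coset, the mean square of a generalized character is at least one. -/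
theorem card_le_sum_sq_cosets {T : Type u} [Group T] [Fintype T] (N : Subgroup T) [N.Normal]
    {χ : T → ℂ} (hχ : Cfsg.IsGeneralizedCharacter T χ) (S : Finset T)
    (hsat : ∀ x ∈ S, ∀ n ∈ N, x * n ∈ S) (hS : ∀ x ∈ S, ∀ k : ℕ, k.Coprime N.index → x ^ k ∈ S)
    (hne : ∀ x ∈ S, ∃ n ∈ N, χ (x * n) ≠ 0) :
    (S.card : ℝ) ≤ ∑ x ∈ S, ‖χ x‖ ^ 2 := by
  classical
  haveI := Fintype.ofFinite (T ⧸ N)
  set π := QuotientGroup.mk' N with hπ
  have hπs : Function.Surjective π := QuotientGroup.mk'_surjective N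
  set fib : T ⧸ N → Finset T := fun q => Finset.univ.filter fun t : T => π t = q with hfib
  set ψ : T → ℂ := χ * fun t => conj (χ t) with hψ
  have hconj : Cfsg.IsGeneralizedCharacter T (fun t => conj (χ t)) := by
    obtain ⟨a, b, ha, hb, rfl⟩ := hχ
    exact ⟨_, _, isCharacter_conj ha, isCharacter_conj hb, by funext t; simp⟩
  have hψgen : Cfsg.IsGeneralizedCharacter T ψ := isGen_mul hχ hconj
  set F : T ⧸ N → ℂ := fun q => (Nat.card N : ℂ)⁻¹ * ∑ t ∈ fib q, ψ t with hF
  have hFcl : Cfsg.IsClassFunction (T ⧸ N) F := by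
    intro q h
    obtain ⟨y, rfl⟩ := hπs h
    simp only [hF]
    congr 1
    refine Finset.sum_bij' (fun t _ => y⁻¹ * t * y) (fun t _ => y * t * y⁻¹) ?_ ?_ ?_ ?_ ?_
    · intro t ht
      simp only [hfib, Finset.mem_filter, Finset.mem_univ, true_and] at ht ⊢
      rw [map_mul, map_mul, map_inv, ht]
      group
    · intro t ht
      simp only [hfib, Finset.mem_filter, Finset.mem_univ, true_and] at ht ⊢
      rw [map_mul, map_mul, map_inv, ht]
    · intro t _; group
    · intro t _; group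
    · intro t _
      have := isGen_isClassFunction hψgen t y⁻¹
      rw [inv_inv] at this
      exact this.symm
  have hsum : ∀ φ : T ⧸ N → ℂ, Cfsg.classInner F φ = Cfsg.classInner ψ (φ ∘ π) := by
    intro φ
    have hcard : Nat.card T = Nat.card (T ⧸ N) * Nat.card N :=
      N.card_eq_card_quotient_mul_card_subgroup
    have h1 : ∀ q, F q * conj (φ q) =
        (Nat.card N : ℂ)⁻¹ * ∑ t ∈ fib q, ψ t * conj ((φ ∘ π) t) := by
      intro q
      rw [hF]
      simp only [mul_assoc, Finset.sum_mul]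
      congr 1
      refine Finset.sum_congr rfl fun t ht => ?_
      rw [Function.comp_apply, (Finset.mem_filter.1 ht).2]
    rw [classInner_def, classInner_def, Finset.sum_congr rfl fun q _ => h1 q, ← Finset.mul_sum,
      Finset.sum_fiberwise, hcard, Nat.cast_mul, mul_inv, mul_assoc]
  have hFgen : Cfsg.IsGeneralizedCharacter (T ⧸ N) F :=
    isGen_of_classInner_int hFcl fun φ hφ => by
      rw [hsum]
      exact classInner_gen_int hψgen (isGen_comp π (isGen_of_isCharacter (isCharacter_of_isIrr hφ)))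
  have hreal : ∀ q, F q = ((((Nat.card N : ℝ)⁻¹ * ∑ t ∈ fib q, ‖χ t‖ ^ 2 : ℝ)) : ℂ) := by
    intro q
    rw [hF]
    push_cast
    congr 1
    exact Finset.sum_congr rfl fun t _ => by rw [hψ, Pi.mul_apply, Complex.mul_conj']
  have hnorm : ∀ q, ‖F q‖ = (Nat.card N : ℝ)⁻¹ * ∑ t ∈ fib q, ‖χ t‖ ^ 2 := fun q => by
    rw [hreal, Complex.norm_real, Real.norm_eq_abs, abs_of_nonneg (by positivity)]
  have hcoset : ∀ x ∈ S, ∀ t, π t = π x → t ∈ S := fun x hx t ht => by
    have := hsat x hx (x⁻¹ * t) (QuotientGroup.eq.1 (show (x : T ⧸ N) = t from ht.symm))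
    rwa [mul_inv_cancel_left] at this
  set S' := S.image π with hS'
  have hpre : ∀ q ∈ S', S.filter (fun t => π t = q) = fib q := by
    intro q hq
    obtain ⟨x, hx, rfl⟩ := Finset.mem_image.1 hq
    ext t
    simp only [hfib, Finset.mem_filter, Finset.mem_univ, true_and, and_iff_right_iff_imp]
    exact hcoset x hx t
  have hfc : ∀ q, (fib q).card = Nat.card N := by
    intro q
    obtain ⟨x, rfl⟩ := hπs q
    rw [← Fintype.card_coe, ← Nat.card_eq_fintype_card]
    refine Nat.card_congr ⟨fun t => ⟨x⁻¹ * t, QuotientGroup.eq.1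
      (show (x : T ⧸ N) = (t : T) from (Finset.mem_filter.1 t.2).2.symm)⟩, fun n => ⟨x * n, by
        simp only [hfib, Finset.mem_filter, Finset.mem_univ, true_and, map_mul]
        rw [show π (n : T) = 1 from (QuotientGroup.eq_one_iff _).2 n.2, mul_one]⟩,
      fun t => Subtype.ext (mul_inv_cancel_left _ _), fun n => Subtype.ext (inv_mul_cancel_left _ _)⟩
  have h := card_le_sum_norm_gen hFgen S' (fun q hq k hk => by
      obtain ⟨x, hx, rfl⟩ := Finset.mem_image.1 hq
      exact Finset.mem_image.2 ⟨x ^ k, hS x hx k hk, map_pow π x k⟩) (fun q hq h0 => by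
      obtain ⟨x, hx, rfl⟩ := Finset.mem_image.1 hq
      obtain ⟨n, hn, hne'⟩ := hne x hx
      rw [hreal, Complex.ofReal_eq_zero] at h0
      have h1 : ∑ t ∈ fib (π x), ‖χ t‖ ^ 2 = 0 := by
        rcases mul_eq_zero.1 h0 with h2 | h2
        · exact absurd h2 (inv_ne_zero (Nat.cast_ne_zero.2 Nat.card_pos.ne'))
        · exact h2
      have h3 := (Finset.sum_eq_zero_iff_of_nonneg fun _ _ => sq_nonneg _).1 h1 (x * n) (by
        simp only [hfib, Finset.mem_filter, Finset.mem_univ, true_and, map_mul]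
        rw [show π n = 1 from (QuotientGroup.eq_one_iff _).2 hn, mul_one])
      exact hne' (by simpa using h3))
  have hmaps : ∀ t ∈ S, π t ∈ S' := fun t ht => Finset.mem_image_of_mem _ ht
  rw [← Finset.sum_fiberwise_of_maps_to hmaps, Finset.card_eq_sum_card_fiberwise hmaps]
  push_cast
  rw [Finset.sum_congr rfl fun q hq => show ((S.filter fun t => π t = q).card : ℝ) = Nat.card N by
      rw [hpre q hq, hfc], Finset.sum_congr rfl fun q hq => show
      ∑ t ∈ S.filter (fun t => π t = q), ‖χ t‖ ^ 2 = (Nat.card N : ℝ) * ‖F q‖ by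
      rw [hpre q hq, hnorm, mul_inv_cancel_left₀ (Nat.cast_ne_zero.2 Nat.card_pos.ne')],
    Finset.sum_const, ← Finset.mul_sum, nsmul_eq_mul, mul_comm]
  exact mul_le_mul_of_nonneg_left h (Nat.cast_nonneg _)

end Cfsg.Agent.OddChar.TypeP.Noncoherent
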