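import Cfsg.Agent.OddChar.TypeP.Noncoherent.Setting
import Cfsg.Agent.OddChar.TypeP.Noncoherent.Mass
import Cfsg.Agent.OddChar.TypeOne.Gap.Basic
import Cfsg.Agent.S1425

/-!
# The mean square outside `A₀(M)`, using the partner of type II
-/

set_option autoImplicit false
set_option linter.unusedSectionVars false
set_option linter.style.haveILetI false

namespace Cfsg.Agent.OddChar.TypeP.Noncoherent

open Cfsg Subgroup
open Cfsg.Agent.Characters Cfsg.Agent.OddLocal
open Cfsg.Agent.OddChar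

universe u

variable {G : Type u} [Group G] [Fintype G]

open Classical in
/-- Summing a class function over the support when all `R a` are trivial. -/
theorem sum_support_bot {A : Set G} {L : Subgroup G} {R : G → Subgroup G}
    (hD : DadeHypothesis A L R) (hR : ∀ a ∈ A, R a = ⊥) (F : G → ℝ)
    (hF : ∀ g z : G, F (z * g * z⁻¹) = F g) :
    (Nat.card L : ℝ) * ∑ g ∈ Finset.univ.filter (fun g => g ∈ Dade.support A R), F g =
      (Nat.card G : ℝ) * ∑ a ∈ Finset.univ.filter (fun a => a ∈ A), F a := by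
  have key := Dade.sum_support hD (fun g => (F g : ℂ)) fun g z => by simp only [hF g z]
  rw [Finset.sum_congr rfl fun a ha => show (Nat.card (R a) : ℂ)⁻¹ *
      ∑ u ∈ Finset.univ.filter (fun u => u ∈ R a), (F (a * u) : ℂ) = (F a : ℂ) by
    rw [hR a (Finset.mem_filter.1 ha).2]
    rw [show (Finset.univ.filter fun u : G => u ∈ (⊥ : Subgroup G)) = {1} by ext; simp]
    simp] at key
  simp only [← Complex.ofReal_natCast, ← Complex.ofReal_inv, ← Complex.ofReal_sum,
    ← Complex.ofReal_mul, Complex.ofReal_inj] at key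
  have hG : (Nat.card G : ℝ) ≠ 0 := Nat.cast_ne_zero.2 Nat.card_pos.ne'
  have hL : (Nat.card L : ℝ) ≠ 0 := Nat.cast_ne_zero.2 Nat.card_pos.ne'
  field_simp at key
  linarith

variable {M W₁ U W₂ T V : Subgroup G}

/-- Elements of `T' - T_F` centralising a non-identity element of `T_F`. -/
def singSet (T : Subgroup G) : Set G := typeA T \ typeA1 T

theorem mem_singSet (hG : IsMinSimpleOddOrder G) (hT : IsCoatom T) (hTP : IsTypePWith T W₂ V W₁)
    (hII : fittingHallOf T = sigmaCore T) {a : G} :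
    a ∈ singSet T ↔ a ∈ ⁅T, T⁆ ∧ a ∉ fittingHallOf T ∧
      ∃ x ∈ fittingHallOf T, x ≠ 1 ∧ a * x = x * a := by
  rw [singSet, Set.mem_sdiff, typeA, if_neg (not_typeI_of_typeP hG hT hTP), typeA1,
    Types.typeCore_eq hG hT, ← hII]
  constructor
  · rintro ⟨⟨h1, h2, h3⟩, h4⟩
    exact ⟨h1, fun h => h4 ⟨h, h2⟩, h3⟩
  · rintro ⟨h1, h2, h3⟩
    exact ⟨⟨h1, fun e => h2 (e ▸ one_mem _), h3⟩, fun h => h2 h.1⟩

/-- `singSet T` is a union of cosets of `T_F`. -/
theorem singSet_mul (hG : IsMinSimpleOddOrder G) (hT : IsCoatom T) (hTP : IsTypePWith T W₂ V W₁)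
    (hII : fittingHallOf T = sigmaCore T) {a q : G} (ha : a ∈ singSet T)
    (hq : q ∈ fittingHallOf T) : a * q ∈ singSet T := by
  rw [mem_singSet hG hT hTP hII] at ha ⊢
  obtain ⟨haT, haQ, x, hx, hx1, hax⟩ := ha
  set Q := fittingHallOf T with hQ
  refine ⟨mul_mem haT (hTP.U_compl.1 hq), fun h => haQ (by
    have := mul_mem h (inv_mem hq); rwa [mul_inv_cancel_right] at this), ?_⟩
  by_contra hnone
  push Not at hnone
  set b := a * q with hb
  have hbn : b ∈ normalizer (Q : Set G) := FittingStructure.le_normalizer_fittingHallOf T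
    (commutator_le_self T (mul_mem haT (hTP.U_compl.1 hq)))
  have hconjQ : ∀ y ∈ Q, b⁻¹ * y * b ∈ Q := fun y hy => by
    have := (mem_normalizer_iff.mp (inv_mem hbn) y).mp hy
    rwa [inv_inv] at this
  have hinj : Function.Injective fun y : Q =>
      (⟨b⁻¹ * (y : G) * b * (y : G)⁻¹, mul_mem (hconjQ y y.2) (inv_mem y.2)⟩ : Q) := by
    intro y y' e
    have e' : b⁻¹ * (y : G) * b * (y : G)⁻¹ = b⁻¹ * (y' : G) * b * (y' : G)⁻¹ :=
      congrArg Subtype.val e
    have h2 : b * ((y : G)⁻¹ * y') = ((y : G)⁻¹ * y') * b := by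
      calc b * ((y : G)⁻¹ * y') = (y : G)⁻¹ * b * (b⁻¹ * y * b * (y : G)⁻¹) * y' := by group
        _ = (y : G)⁻¹ * b * (b⁻¹ * y' * b * (y' : G)⁻¹) * y' := by rw [e']
        _ = ((y : G)⁻¹ * y') * b := by group
    by_contra hne
    exact hnone _ (mul_mem (inv_mem y.2) y'.2)
      (fun h => hne (Subtype.ext (inv_mul_eq_one.mp h))) h2
  obtain ⟨y, hy⟩ := (Finite.injective_iff_surjective.mp hinj) ⟨q⁻¹, inv_mem hq⟩
  have hy' : b⁻¹ * (y : G) * b * (y : G)⁻¹ = q⁻¹ := congrArg Subtype.val hy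
  have hab : (y : G) * b * (y : G)⁻¹ = a := by
    calc (y : G) * b * (y : G)⁻¹ = b * (b⁻¹ * y * b * (y : G)⁻¹) := by group
      _ = a := by rw [hy', hb, mul_inv_cancel_right]
  refine hnone ((y : G)⁻¹ * x * y) (mul_mem (mul_mem (inv_mem y.2) hx) y.2)
    (fun h => hx1 ?_) ?_
  · calc x = y * ((y : G)⁻¹ * x * y) * (y : G)⁻¹ := by group
      _ = 1 := by rw [h, mul_one, mul_inv_cancel]
  · rw [← hab] at hax
    calc b * ((y : G)⁻¹ * x * y) = (y : G)⁻¹ * (y * b * (y : G)⁻¹ * x) * y := by group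
      _ = (y : G)⁻¹ * (x * (y * b * (y : G)⁻¹)) * y := by rw [hax]
      _ = (y : G)⁻¹ * x * y * b := by group

open Classical in
/-- The mean square of a virtual character on `singSet T`. -/
theorem singSet_sum (hG : IsMinSimpleOddOrder G) (hT : IsCoatom T) (hTP : IsTypePWith T W₂ V W₁)
    (hII : fittingHallOf T = sigmaCore T) {z : G → ℂ} (hz : IsGeneralizedCharacter G z)
    (hv : ∀ v ∈ V, v ∈ singSet T → z v ≠ 0) :
    ((Finset.univ.filter (fun a => a ∈ singSet T)).card : ℝ) ≤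
      ∑ a ∈ Finset.univ.filter (fun a => a ∈ singSet T), ‖z a‖ ^ 2 := by
  set T' := (⁅T, T⁆ : Subgroup G)
  set Q := fittingHallOf T
  set S : Finset T' := Finset.univ.filter (fun a : T' => (a : G) ∈ singSet T) with hSdef
  haveI : (Q.subgroupOf T').Normal := (normal_subgroupOf_iff_le_normalizer hTP.U_compl.1).2
    ((commutator_le_self T).trans (FittingStructure.le_normalizer_fittingHallOf T))
  have hidx : (Q.subgroupOf T').index = Nat.card V := by
    have h1 := (Q.subgroupOf T').card_mul_index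
    rw [Nat.card_congr (subgroupOfEquivOfLe hTP.U_compl.1).toEquiv,
      Basics.card_eq_of_isCompl' hTP.U_compl.1 hTP.U_compl.2.1 hTP.U_compl.2.2.1
        hTP.U_compl.2.2.2] at h1
    exact Nat.eq_of_mul_eq_mul_left Nat.card_pos h1
  have hsat : ∀ x ∈ S, ∀ n ∈ Q.subgroupOf T', x * n ∈ S := fun x hx n hn =>
    Finset.mem_filter.2 ⟨Finset.mem_univ _, singSet_mul hG hT hTP hII (Finset.mem_filter.1 hx).2 hn⟩
  have hrep : ∀ x ∈ S, ∃ v : T', (v : G) ∈ V ∧ v ∈ S ∧ v⁻¹ * x ∈ Q.subgroupOf T' := by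
    intro x hx
    obtain ⟨q, hq, v, hv', e⟩ := hTP.U_compl.2.2.2 (x : G) x.2
    set v' : T' := ⟨v, hTP.U_compl.2.1 hv'⟩
    have hmem : v'⁻¹ * x ∈ Q.subgroupOf T' := by
      show v⁻¹ * (x : G) ∈ Q
      rw [e, ← mul_assoc]
      have := (mem_normalizer_iff.mp (FittingStructure.le_normalizer_fittingHallOf T
        (commutator_le_self T (inv_mem v'.2))) q).mp hq
      rwa [inv_inv] at this
    refine ⟨v', hv', ?_, hmem⟩
    have := hsat x hx _ ((Q.subgroupOf T').inv_mem hmem)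
    rwa [mul_inv_rev, inv_inv, mul_inv_cancel_left] at this
  have h := card_le_sum_sq_cosets (Q.subgroupOf T') (isGen_restrict T' hz) S hsat ?_ ?_
  · have hmap : S.map ⟨Subtype.val, Subtype.val_injective⟩ =
        Finset.univ.filter (fun a => a ∈ singSet T) := by
      ext a
      simp only [hSdef, Finset.mem_map, Finset.mem_filter, Finset.mem_univ, true_and,
        Function.Embedding.coeFn_mk]
      refine ⟨by rintro ⟨b, hb, rfl⟩; exact hb, fun ha => ?_⟩
      exact ⟨⟨a, ((mem_singSet hG hT hTP hII).mp ha).1⟩, ha, rfl⟩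
    rw [← hmap, Finset.card_map, Finset.sum_map]
    exact h
  · intro x hx k hk
    obtain ⟨v, hvV, hvS, hvx⟩ := hrep x hx
    rw [hidx] at hk
    obtain ⟨m, hm⟩ := exists_pow_eq_self_of_coprime (x := (v : G)) (n := k)
      (hk.coprime_dvd_right (orderOf_dvd_natCard V hvV))
    have hvk : v ^ k ∈ S := by
      obtain ⟨-, hvQ, y, hy, hy1, hvy⟩ :=
        (mem_singSet hG hT hTP hII).mp (Finset.mem_filter.1 hvS).2
      refine Finset.mem_filter.2 ⟨Finset.mem_univ _, (mem_singSet hG hT hTP hII).mpr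
        ⟨(v ^ k).2, fun h => hvQ ?_, y, hy, hy1, ?_⟩⟩
      · have := pow_mem h m
        rwa [SubmonoidClass.coe_pow, hm] at this
      · rw [SubmonoidClass.coe_pow]
        exact ((show Commute (v : G) y from hvy).pow_left k).eq
    have hq : (v ^ k)⁻¹ * x ^ k ∈ Q.subgroupOf T' := by
      rw [← QuotientGroup.eq, QuotientGroup.mk_pow, QuotientGroup.mk_pow,
        show (v : T' ⧸ Q.subgroupOf T') = x from QuotientGroup.eq.2 hvx]
    have := hsat _ hvk _ hq
    rwa [mul_inv_cancel_left] at this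
  · intro x hx
    obtain ⟨v, hvV, hvS, hvx⟩ := hrep x hx
    refine ⟨x⁻¹ * v, ?_, ?_⟩
    · have := (Q.subgroupOf T').inv_mem hvx
      rwa [mul_inv_rev, inv_inv] at this
    · rw [mul_inv_cancel_left]
      exact hv _ hvV (Finset.mem_filter.1 hvS).2

section Outside

variable (hG : IsMinSimpleOddOrder G) (hM : IsCoatom M) (hP : IsTypePWith M W₁ U W₂)
  (hcore : typeCore M = ⁅M, M⁆) (hT : IsCoatom T) (hTP : IsTypePWith T W₂ V W₁)
  (hII : fittingHallOf T = sigmaCore T) (hnc : ∀ g : G, T.map (MulAut.conj g).toMonoidHom ≠ M)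
include hG hM hP hcore hT hTP hII hnc

theorem coprime_W : (Nat.card W₁).Coprime (Nat.card W₂) :=
  (coprime_derived hP).coprime_dvd_right (card_dvd_of_le (W₂_le_derived hP))

/-- The conjugates of `singSet T` avoid `Ã₀(M)`. -/
theorem singSet_disjoint {g : G} (hg : g ∈ Dade.support (singSet T) (supportR T)) :
    g ∉ Dade.support (typeA0 M) (supportR M) := by
  rintro ⟨a, ha, r, hr, x, hx⟩
  obtain ⟨s, hs, r', hr', y, hy⟩ := hg
  rw [supportR_eq_bot hG hM (kappa_nonempty_of_typeP hG hM hP) ha, mem_bot] at hr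
  rw [supportR_eq_bot hG hT (kappa_nonempty_of_typeP hG hT hTP) (Or.inl hs.1), mem_bot] at hr'
  subst hr hr'
  rw [mul_one] at hx hy
  rcases typeA0_cases hP hG hM ha with ha | ⟨m, hm, w, hw, hw1, hw2, rfl⟩
  · have hne : (tildeOf M (typeA1 M) ∩ tildeOf T (typeA T)).Nonempty := by
      refine ⟨g, SupportR.mem_tilde.mpr ⟨a, ?_, 1, one_mem _, x⁻¹, by rw [← hx]; group⟩,
        SupportR.mem_tilde.mpr ⟨s, hs.1, 1, one_mem _, y⁻¹, by rw [← hy]; group⟩⟩
      rw [typeA_eq_core hP hG hM hcore] at ha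
      rw [typeA1, hcore]
      exact ha
    obtain ⟨h, hsup⟩ := (TypeOne.Gap.exists_supports_iff hG hM hT hnc).mpr hne
    exact Set.not_nonempty_empty
      ((TypeOne.Gap.kappa_of_supports hG hM (Unique.isCoatom_map_conj hT h) hsup).1 ▸
        kappa_nonempty_of_typeP hG hM hP)
  · rw [sup_comm] at hw
    have hwT : w ∈ typeA0 T := by
      simpa using conj_W_subset_A0 hTP hG hT (one_mem T) hw hw2 hw1
    have hD := (DadeSets.main hG hT _ (Or.inr (Or.inr rfl))).2
    obtain ⟨t, ht, hte⟩ := hD.fusion s (Or.inl hs.1) (m⁻¹ * x * y⁻¹) (by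
      convert hwT using 1
      calc m⁻¹ * x * y⁻¹ * s * (m⁻¹ * x * y⁻¹)⁻¹
          = m⁻¹ * (x * (y⁻¹ * s * y) * x⁻¹) * m := by group
        _ = m⁻¹ * (x * g * x⁻¹) * m := by rw [← hy]; group
        _ = w := by rw [hx]; group)
    have hsT : s ∈ ⁅T, T⁆ := ((mem_singSet hG hT hTP hII).mp hs).1
    have hwd : w ∈ ⁅T, T⁆ := by
      have := (mem_normalizer_iff.mp (derived_le_normalizer T ht) s).mp hsT
      rw [hte] at this
      convert this using 1
      calc w = m⁻¹ * (x * g * x⁻¹) * m := by rw [hx]; group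
        _ = m⁻¹ * (x * (y⁻¹ * (y * g * y⁻¹) * y) * x⁻¹) * m := by group
        _ = m⁻¹ * x * y⁻¹ * s * (m⁻¹ * x * y⁻¹)⁻¹ := by rw [hy]; group
    exact hw1 (mem_W₂_of_derived hTP hw hwd)

/-- An element outside `Ã₀(M)` of order not prime to `|W₁|` is conjugate into `T_F` or `singSet T`. -/
theorem singular_cases {g : G} (hg : g ∉ Dade.support (typeA0 M) (supportR M))
    (hcop : ¬ (orderOf g).Coprime (Nat.card W₁)) :
    g ∈ Dade.support (typeA1 T) (supportR T) ∨ g ∈ Dade.support (singSet T) (supportR T) := by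
  obtain ⟨l, hl, hlg, hlw⟩ := Nat.Prime.not_coprime_iff_dvd.mp hcop
  set x := g ^ (orderOf g / l) with hx
  have hxo : orderOf x = l := orderOf_pow_orderOf_div (orderOf_pos g).ne' hlg
  have hlσ : l ∈ sigma T := Transitivity.isPi_piCoreOf (sigma T) T l hl (hlw.trans
    (card_dvd_of_le (fun y hy => by
      have := (mem_inf.mp (hTP.W₂_le hy)).1
      rwa [hII] at this)))
  have hx1 : x ≠ 1 := fun e => hl.ne_one (by rw [← hxo, e, orderOf_one])
  obtain ⟨h, hh⟩ := S1425.result hG T hT (zpowers x)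
    (fun e => hx1 (zpowers_eq_bot.mp e)) fun p hp hpd => by
      rw [Nat.card_zpowers, hxo] at hpd
      rwa [(Nat.prime_dvd_prime_iff_eq hp hl).mp hpd]
  have hx' : h * x * h⁻¹ ∈ fittingHallOf T := by
    rw [hII]; exact hh ⟨x, mem_zpowers x, rfl⟩
  set g' := h * g * h⁻¹ with hg'
  have hcomm : g' * (h * x * h⁻¹) = h * x * h⁻¹ * g' :=
    ((Commute.conj_iff h).mpr ((Commute.refl g).pow_right _)).eq
  have hx'1 : h * x * h⁻¹ ≠ 1 := fun e => hx1 (conj_eq_one_iff.mp e)
  have hg'1 : g' ≠ 1 := fun e => hx1 (by rw [hx, conj_eq_one_iff.mp e, one_pow])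
  have hA1 : h * x * h⁻¹ ∈ typeA0 T := Or.inl (TypeOne.Gap.core_subset_typeA hG hT (by
    rw [TypeOne.Gap.typeA1_eq hG hT, ← hII]
    exact ⟨hx', hx'1⟩))
  have hg'T : g' ∈ T := centralizer_le hG hT (kappa_nonempty_of_typeP hG hT hTP) hA1
    (mem_centralizer_singleton_iff.mpr hcomm)
  by_cases hd : g' ∈ ⁅T, T⁆
  · by_cases hQ : g' ∈ fittingHallOf T
    · refine Or.inl ⟨g', ?_, 1, one_mem _, h, by rw [mul_one]⟩
      rw [TypeOne.Gap.typeA1_eq hG hT, ← hII]
      exact ⟨hQ, hg'1⟩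
    · exact Or.inr ⟨g', (mem_singSet hG hT hTP hII).mpr ⟨hd, hQ, _, hx', hx'1, hcomm⟩, 1,
        one_mem _, h, by rw [mul_one]⟩
  · exfalso
    obtain ⟨t, ht, hw, hw2⟩ := conj_into hTP hg'T hd
    by_cases hw1 : t * g' * t⁻¹ ∈ W₂
    · have h1 : orderOf g ∣ Nat.card W₂ := by
        have := orderOf_dvd_natCard W₂ hw1
        rwa [show t * g' * t⁻¹ = (t * h) * g * (t * h)⁻¹ by rw [hg']; group,
          TypeTwo.orderOf_conj] at this
      exact hl.ne_one (Nat.eq_one_of_dvd_coprimes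
        (coprime_W hG hM hP hcore hT hTP hII hnc) hlw (hlg.trans h1))
    · rw [sup_comm] at hw
      have hA := conj_W_subset_A0 hP hG hM (one_mem M) hw hw2 hw1
      rw [one_mul, inv_one, mul_one] at hA
      exact hg ⟨_, hA, 1, one_mem _, t * h, by rw [hg']; group⟩

open Classical in
/-- The lower bound outside `Ã₀(M)`. -/
theorem outside_sum {z : G → ℂ} (hz : IsGeneralizedCharacter G z)
    (hodd : ∀ g, g ∉ Dade.support (typeA0 M) (supportR M) →
      (orderOf g).Coprime (Nat.card W₁) → 1 ≤ ‖z g‖) :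
    ((Finset.univ.filter (fun g => g ∉ Dade.support (typeA0 M) (supportR M))).card : ℝ) -
        (Nat.card G : ℝ) * (Nat.card (fittingHallOf T) : ℝ) / (Nat.card T : ℝ) ≤
      ∑ g ∈ Finset.univ.filter (fun g => g ∉ Dade.support (typeA0 M) (supportR M)),
        ‖z g‖ ^ 2 := by
  set X := Finset.univ.filter (fun g => g ∉ Dade.support (typeA0 M) (supportR M))
  set Y := Finset.univ.filter (fun g => g ∈ Dade.support (singSet T) (supportR T))
  set Z := Finset.univ.filter (fun g => g ∈ Dade.support (typeA1 T) (supportR T))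
  have hκT := kappa_nonempty_of_typeP hG hT hTP
  have hDA := (DadeSets.main hG hT _ (Or.inr (Or.inl rfl))).2
  have hDA1 := (DadeSets.main hG hT _ (Or.inl rfl)).2
  have hst : ∀ t ∈ T, ∀ a ∈ singSet T, t * a * t⁻¹ ∈ singSet T := fun t ht a ha =>
    ⟨hDA.conj_mem t ht a ha.1, fun h => ha.2 (by
      have := hDA1.conj_mem t⁻¹ (inv_mem ht) _ h
      simpa [mul_assoc] using this)⟩
  have hDS : DadeHypothesis (singSet T) T (supportR T) :=
    TypeOne.Gap.dade_mono hDA Set.sdiff_subset hst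
  have hF : ∀ g y : G, ‖z (y * g * y⁻¹)‖ ^ 2 = ‖z g‖ ^ 2 := fun g y => by
    rw [isGen_isClassFunction hz g y]
  have hRS : ∀ a ∈ singSet T, supportR T a = ⊥ := fun a ha =>
    supportR_eq_bot hG hT hκT (Or.inl ha.1)
  have e1 := sum_support_bot hDS hRS (fun g => ‖z g‖ ^ 2) hF
  have e2 := sum_support_bot hDS hRS (fun _ => 1) (fun _ _ => rfl)
  have e3 := sum_support_bot hDA1 (fun a ha => supportR_eq_bot hG hT hκT
    (Or.inl (TypeOne.Gap.core_subset_typeA hG hT ha))) (fun _ => 1) (fun _ _ => rfl)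
  simp only [Finset.sum_const, nsmul_eq_mul, mul_one] at e2 e3
  have hTpos : (0 : ℝ) < (Nat.card T : ℝ) := Nat.cast_pos.2 Nat.card_pos
  have hS := singSet_sum hG hT hTP hII hz fun v hv hvS h0 => by
    have h := hodd v (singSet_disjoint hG hM hP hcore hT hTP hII hnc
      ⟨v, hvS, 1, one_mem _, 1, by group⟩) ?_
    · rw [h0, norm_zero] at h; linarith
    · refine Nat.Coprime.coprime_dvd_left (orderOf_dvd_natCard V hv) ?_
      refine Nat.Coprime.coprime_dvd_right (card_dvd_of_le (fun y hy => (mem_inf.mp (hTP.W₂_le hy)).1 :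
        W₁ ≤ fittingHallOf T)) (Nat.Coprime.symm ?_)
      refine (FittingStructure.fittingHallOf_hall T).coprime_dvd_right ?_
      rw [← relIndex_mul_relIndex _ _ T hTP.U_compl.1 (commutator_le_self T)]
      refine Dvd.dvd.mul_right (dvd_of_eq ?_) _
      have h1 := ((fittingHallOf T).subgroupOf ⁅T, T⁆).card_mul_index
      rw [Nat.card_congr (subgroupOfEquivOfLe hTP.U_compl.1).toEquiv,
        Basics.card_eq_of_isCompl' hTP.U_compl.1 hTP.U_compl.2.1 hTP.U_compl.2.2.1
          hTP.U_compl.2.2.2] at h1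
      exact (Nat.eq_of_mul_eq_mul_left Nat.card_pos h1).symm
  have hY : (Y.card : ℝ) ≤ ∑ g ∈ Y, ‖z g‖ ^ 2 := by
    refine le_of_mul_le_mul_left ?_ hTpos
    rw [e1, e2]
    exact mul_le_mul_of_nonneg_left hS (Nat.cast_nonneg _)
  have hZ : (Z.card : ℝ) ≤
      (Nat.card G : ℝ) * (Nat.card (fittingHallOf T) : ℝ) / (Nat.card T : ℝ) := by
    rw [le_div_iff₀ hTpos, mul_comm, e3]
    refine mul_le_mul_of_nonneg_left ?_ (Nat.cast_nonneg _)
    rw [Nat.cast_le]
    have h3 : (Finset.univ.filter fun a => a ∈ fittingHallOf T).card = Nat.card (fittingHallOf T) := by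
      rw [Nat.subtype_card]; intro x; simp
    rw [← h3]
    refine Finset.card_le_card fun a ha => ?_
    have ha' := (Finset.mem_filter.1 ha).2
    rw [TypeOne.Gap.typeA1_eq hG hT, ← hII] at ha'
    exact Finset.mem_filter.2 ⟨Finset.mem_univ _, ha'.1⟩
  have hYX : Y ⊆ X := fun g hg => Finset.mem_filter.2 ⟨Finset.mem_univ _,
    singSet_disjoint hG hM hP hcore hT hTP hII hnc (Finset.mem_filter.1 hg).2⟩
  have hrest : ((X \ Y) \ Z).card ≤ (∑ g ∈ (X \ Y) \ Z, ‖z g‖ ^ 2 : ℝ) := by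
    refine le_of_eq_of_le (by simp) (Finset.card_nsmul_le_sum _ _ (1 : ℝ) fun g hg => ?_)
    obtain ⟨hgXY, hgZ⟩ := Finset.mem_sdiff.1 hg
    obtain ⟨hgX, hgY⟩ := Finset.mem_sdiff.1 hgXY
    have hgX' := (Finset.mem_filter.1 hgX).2
    refine one_le_pow₀ (hodd g hgX' ?_)
    by_contra hc
    rcases singular_cases hG hM hP hcore hT hTP hII hnc hgX' hc with h | h
    exacts [hgZ (Finset.mem_filter.2 ⟨Finset.mem_univ _, h⟩),
      hgY (Finset.mem_filter.2 ⟨Finset.mem_univ _, h⟩)]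
  have hcard : (X.card : ℝ) ≤ Y.card + ((X \ Y) \ Z).card + Z.card := by
    have h1 := Finset.card_sdiff_add_card_eq_card hYX
    have h2 := Finset.card_le_card_sdiff_add_card (s := X \ Y) (t := Z)
    have : X.card ≤ Y.card + ((X \ Y) \ Z).card + Z.card := by omega
    exact_mod_cast this
  have hsum : ∑ g ∈ Y, ‖z g‖ ^ 2 + ∑ g ∈ (X \ Y) \ Z, ‖z g‖ ^ 2 ≤ ∑ g ∈ X, ‖z g‖ ^ 2 := by
    rw [← Finset.sum_sdiff hYX, add_comm (∑ g ∈ X \ Y, _)]
    exact add_le_add le_rfl (Finset.sum_le_sum_of_subset_of_nonneg Finset.sdiff_subset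
      fun _ _ _ => by positivity)
  linarith

end Outside

end Cfsg.Agent.OddChar.TypeP.Noncoherent
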