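import Cfsg.Agent.OddChar.TypeP.Noncoherent.Basic
import Cfsg.Agent.OddChar.Coherence.Central

/-!
# `|M' : M''| ≥ 2 |W₁| + 1` and `|W₂| ≤ |M''|`
-/

set_option autoImplicit false
set_option linter.unusedSectionVars false
set_option linter.style.haveILetI false

namespace Cfsg.Agent.OddChar.TypeP.Noncoherent

open Cfsg Subgroup
open Cfsg.Agent.Characters

universe u

variable {G : Type u} [Group G] [Fintype G] {M W₁ U W₂ : Subgroup G} [Fintype M]

theorem le_W₂_commutator (hP : IsTypePWith M W₁ U W₂) :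
    W₂.subgroupOf M ≤ ⁅derivedIn M, derivedIn M⁆ := fun x hx => by
  refine (mem_map_iff_mem M.subtype_injective).1 ?_
  rw [map_commutator, derivedIn, subgroupOf_map_subtype, inf_eq_left.mpr (commutator_le_self M)]
  exact (mem_inf.mp (hP.W₂_le hx)).2

/-- A prime action on `M' / M''` without fixed points. -/
theorem frob_quotient (hP : IsTypePWith M W₁ U W₂) {k : M} (hk : k ∈ derivedIn M)
    (hk' : k ∉ ⁅derivedIn M, derivedIn M⁆) {x : M}
    (hx : x * k * x⁻¹ * k⁻¹ ∈ ⁅derivedIn M, derivedIn M⁆) : x ∈ derivedIn M := by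
  haveI : (⁅derivedIn M, derivedIn M⁆).Normal := Subgroup.commutator_normal _ _
  obtain ⟨a, ha, w, hw, e⟩ := hP.W₁_compl.2.2.2 x x.2
  by_contra hxK
  have hw1 : w ≠ 1 := fun e' => hxK (show (x : G) ∈ ⁅M, M⁆ by rwa [e, e', mul_one])
  set K' := ⁅derivedIn M, derivedIn M⁆
  set A : M := ⟨a, commutator_le_self M ha⟩
  set Y : M := ⟨w, W₁_le hP hw⟩
  have hxAY : x = A * Y := Subtype.ext e
  have hAk : A⁻¹ * k * A * k⁻¹ ∈ K' := by
    have := commutator_mem_commutator (H₁ := derivedIn M) (H₂ := derivedIn M)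
      ((derivedIn M).inv_mem (show A ∈ derivedIn M from ha)) hk
    rwa [commutatorElement_def, inv_inv] at this
  have hY : Y * k * Y⁻¹ * k⁻¹ ∈ K' := by
    have h1 : A⁻¹ * (x * k * x⁻¹ * k⁻¹) * A ∈ K' := by
      have := (inferInstance : K'.Normal).conj_mem _ hx A⁻¹
      rwa [inv_inv] at this
    have h2 : Y * k * Y⁻¹ * k⁻¹ = A⁻¹ * (x * k * x⁻¹ * k⁻¹) * A * (A⁻¹ * k * A * k⁻¹) := by
      rw [hxAY]; group
    rw [h2]
    exact mul_mem h1 hAk
  have hh : k⁻¹ * (Y * k * Y⁻¹) ∈ K' := by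
    have := (inferInstance : K'.Normal).conj_mem _ hY k⁻¹
    rwa [inv_inv, show k⁻¹ * (Y * k * Y⁻¹ * k⁻¹) * k = k⁻¹ * (Y * k * Y⁻¹) by group] at this
  have hK'le : K' ≤ derivedIn M := commutator_le_self _
  have hcop : (orderOf Y).Coprime (Nat.card K') := by
    refine Nat.Coprime.coprime_dvd_left ?_ ((coprime_derived hP).coprime_dvd_right ?_)
    · rw [← Subgroup.orderOf_coe]; exact orderOf_dvd_natCard W₁ hw
    · rw [← card_derivedIn (M := M)]; exact card_dvd_of_le hK'le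
  obtain ⟨b, hb, c, hc, hcY, hbc⟩ := Cfsg.Agent.S1496.result K' Y
    (by rw [normalizer_eq_top_iff.2 inferInstance]; exact mem_top _) hcop _ hh
  have hord : (c * Y) ^ orderOf Y = 1 := by
    rw [← hbc, show k⁻¹ * (Y * k * Y⁻¹) * Y = k⁻¹ * Y * k by group,
      show b * (k⁻¹ * Y * k) * b⁻¹ = (b * k⁻¹) * Y * (b * k⁻¹)⁻¹ by group, conj_pow,
      pow_orderOf_eq_one, mul_one, mul_inv_cancel]
  have hc1 : c = 1 := by
    rw [Commute.mul_pow hcY, pow_orderOf_eq_one, mul_one] at hord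
    exact orderOf_eq_one_iff.1 (Nat.eq_one_of_dvd_coprimes hcop (orderOf_dvd_of_pow_eq_one hord)
      (orderOf_dvd_natCard K' hc))
  rw [hc1, one_mul] at hbc
  have hcom : (k * b⁻¹ : M) * Y = Y * (k * b⁻¹) := by
    conv_lhs => rw [← hbc]
    group
  have hW2 : k * b⁻¹ ∈ W₂.subgroupOf M := by
    show ((k * b⁻¹ : M) : G) ∈ W₂
    rw [← hP.W₂_centralizer w hw hw1]
    exact mem_inf.mpr ⟨(derivedIn M).mul_mem hk ((derivedIn M).inv_mem (hK'le hb)),
      mem_centralizer_singleton_iff.mpr (congrArg Subtype.val hcom)⟩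
  refine hk' ?_
  have := K'.mul_mem (le_W₂_commutator hP hW2) hb
  rwa [inv_mul_cancel_right] at this

theorem Ctx.card_bound {η : (↥(W₁ ⊔ W₂) →* ℂˣ) → G → ℂ} {μ : (↥(W₁ ⊔ W₂) →* ℂˣ) → ↥M → ℂ}
    {δ : (↥(W₁ ⊔ W₂) →* ℂˣ) → ℂ} {R : (↥M → ℂ) → Finset (G → ℂ)} {d : ℕ} {ε n : ℤ}
    (c : Ctx M W₁ U W₂ η μ δ R d ε n) :
    (2 * Nat.card W₁ + 1) * Nat.card W₂ ≤ Nat.card (⁅M, M⁆ : Subgroup G) := by
  set K := derivedIn M
  haveI : (⁅K, K⁆).Normal := Subgroup.commutator_normal _ _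
  haveI : Group.IsSolvable M := OddLocal.Transitivity.isSolvable_of_ne_top c.hG c.hM.1
  have hdvd := Coherence.index_dvd_relIndex_sub_one K ⁅K, K⁆ (commutator_le_self K) le_rfl
    fun k hk hk' x hx => frob_quotient c.hP hk hk' hx
  rw [index_derivedIn c.hP] at hdvd
  have hmul : Nat.card ↥⁅K, K⁆ * (⁅K, K⁆).relIndex K = Nat.card (⁅M, M⁆ : Subgroup G) := by
    rw [← card_derivedIn (M := M), ← relIndex_bot_left, ← relIndex_bot_left]
    exact relIndex_mul_relIndex _ _ _ bot_le (commutator_le_self K)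
  have hne : K ≠ ⊥ := fun e => c.hP.selfNormalizing.2.1 (eq_bot_iff.mpr fun x hx => by
    have h : (⟨x, commutator_le_self M (W₂_le_derived c.hP hx)⟩ : M) ∈ K :=
      W₂_le_derived c.hP hx
    rw [e, mem_bot] at h
    exact mem_bot.mpr (congrArg Subtype.val h))
  have hlt : 1 < (⁅K, K⁆).relIndex K := by
    refine Nat.lt_of_le_of_ne (Nat.pos_of_ne_zero index_ne_zero_of_finite) fun h => ?_
    exact (Group.IsSolvable.commutator_lt_of_ne_bot hne).not_ge (relIndex_eq_one.1 h.symm)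
  have hodd : Odd ((⁅K, K⁆).relIndex K) :=
    (c.hG.1.of_dvd_nat (card_subgroup_dvd_card _)).of_dvd_nat (Dvd.intro_left _ hmul)
  have h2 := Coherence.two_mul_add_one_le (c.hG.1.of_dvd_nat (card_subgroup_dvd_card W₁)) hodd hlt hdvd
  have h3 : Nat.card W₂ ≤ Nat.card ↥⁅K, K⁆ := by
    rw [← Nat.card_congr (subgroupOfEquivOfLe
      ((W₂_le_derived c.hP).trans (commutator_le_self M))).toEquiv]
    exact Subgroup.card_le_of_le (le_W₂_commutator c.hP)
  rw [← hmul, mul_comm (Nat.card ↥⁅K, K⁆)]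
  exact Nat.mul_le_mul h2 h3

end Cfsg.Agent.OddChar.TypeP.Noncoherent
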