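import Cfsg.Agent.OddChar.TypeP.Noncoherent.Alpha

/-!
# Coherence of `S` forces `τ₁ ζ` to be the row `j = 0` off `A₀`
-/

set_option autoImplicit false
set_option linter.unusedSectionVars false
set_option linter.style.haveILetI false

namespace Cfsg.Agent.OddChar.TypeP.Noncoherent

open Cfsg Subgroup
open Cfsg.Agent.Characters Cfsg.Agent.OddChar.Coherence
open scoped ComplexConjugate

universe u

variable {G : Type u} [Group G] [Fintype G] {M W₁ U W₂ : Subgroup G} [Fintype M]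
  {η : (↥(W₁ ⊔ W₂) →* ℂˣ) → G → ℂ} {μ : (↥(W₁ ⊔ W₂) →* ℂˣ) → ↥M → ℂ}
  {δ : (↥(W₁ ⊔ W₂) →* ℂˣ) → ℂ} {R : (↥M → ℂ) → Finset (G → ℂ)} {d : ℕ} {ε n : ℤ}
variable (c : Ctx M W₁ U W₂ η μ δ R d ε n)
include c

theorem Ctx.three_le : 3 ≤ Nat.card W₁ := by
  obtain ⟨k, hk⟩ := c.hG.1.of_dvd_nat (card_subgroup_dvd_card W₁)
  have h2 : Nat.card W₁ ≠ 1 := fun e => c.hP.W₁_ne (card_eq_one.mp e)
  omega

theorem Ctx.inv_ne {j : ↥(W₁ ⊔ W₂) →* ℂˣ} (hj1 : j ≠ 1) : j⁻¹ ≠ j := fun e => by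
  refine hj1 (MonoidHom.ext fun w => ?_)
  have h2 : j w ^ 2 = 1 := by
    rw [sq]
    nth_rewrite 1 [← e]
    rw [MonoidHom.inv_apply, inv_mul_cancel]
  have h3 : j w ^ Nat.card ↥(W₁ ⊔ W₂) = 1 := by rw [← map_pow, pow_card_eq_one', map_one]
  rw [MonoidHom.one_apply]
  exact orderOf_eq_one_iff.1 (Nat.eq_one_of_dvd_coprimes (Nat.coprime_two_left.2 (c.hG.1.of_dvd_nat (card_subgroup_dvd_card (W₁ ⊔ W₂))))
    (orderOf_dvd_of_pow_eq_one h2) (orderOf_dvd_of_pow_eq_one h3))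

theorem Ctx.col_norm (j : ↥(W₁ ⊔ W₂) →* ℂˣ) :
    classInner (colSum μ j) (colSum μ j) = (Nat.card W₁ : ℂ) := by
  classical
  haveI := Fintype.ofFinite (↥(W₁ ⊔ W₂) →* ℂˣ)
  rw [colSum_eq, classInner_sum_left, Finset.sum_congr rfl fun a ha => by
    rw [classInner_sum_right, Finset.sum_eq_single a (fun b _ hb => classInner_isIrr_ne (c.hμ.irr _)
      (c.hμ.irr _) fun e => hb (mul_right_cancel (c.hμ.inj e)).symm) (fun h => absurd ha h),
      classInner_isIrr_self (c.hμ.irr _)]]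
  rw [Finset.sum_const, card_lefts c.hP.selfNormalizing, nsmul_eq_mul, mul_one]

theorem Ctx.col_one {j : ↥(W₁ ⊔ W₂) →* ℂˣ} (hj : j ∈ rightSet W₁ W₂) (hj1 : j ≠ 1) :
    colSum μ j 1 = (d : ℂ) * (Nat.card W₁ : ℂ) := by
  classical
  haveI := Fintype.ofFinite (↥(W₁ ⊔ W₂) →* ℂˣ)
  rw [colSum_eq, Finset.sum_apply, Finset.sum_congr rfl fun a ha =>
    c.hc.degree a (mem_lefts.1 ha) j hj hj1, Finset.sum_const, card_lefts c.hP.selfNormalizing,
    nsmul_eq_mul, mul_comm]

theorem Ctx.alpha_col {ζ : ↥M → ℂ} (hζ : ζ ∈ calS M) {i j : ↥(W₁ ⊔ W₂) →* ℂˣ}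
    (hi : i ∈ leftSet W₁ W₂) (hj : j ∈ rightSet W₁ W₂) (hj1 : j ≠ 1) (hne : ζ ≠ colSum μ j) :
    classInner (alphaFun μ ζ ε n i j) (colSum μ j) = 1 := by
  classical
  haveI := Fintype.ofFinite (↥(W₁ ⊔ W₂) →* ℂˣ)
  have h3 : classInner ζ (colSum μ j) = 0 :=
    c.hsys.orthogonal ζ hζ _ (c.hcol j hj hj1) hne
  have h1 : classInner (μ (i * j)) (colSum μ j) = 1 := by
    rw [colSum_eq, classInner_sum_right, Finset.sum_eq_single i (fun b _ hb => classInner_isIrr_ne
      (c.hμ.irr _) (c.hμ.irr _) fun e => hb (mul_right_cancel (c.hμ.inj e)).symm)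
      (fun h => absurd (mem_lefts.2 hi) h), classInner_isIrr_self (c.hμ.irr _)]
  have h2 : classInner (μ i) (colSum μ j) = 0 := by
    rw [colSum_eq, classInner_sum_right, Finset.sum_eq_zero fun b hb => classInner_isIrr_ne
      (c.hμ.irr _) (c.hμ.irr _) fun e => hj1 (c.split.mul_inj (φ := b) (φ' := i) (ψ' := 1)
        (mem_lefts.1 hb) hi hj CyclicTI.isRight_one
        ((c.hμ.inj e).symm.trans (MonoidHom.ext fun w => by simp))).2]
  simp only [alphaFun, classInner_sub_left, classInner_smul_left, h1, h2, h3, mul_zero, sub_zero]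

/-- Off `A₀` the image of `ζ` is the sum of the `η i`. -/
theorem Ctx.values_off (hCI : ColumnImageStatement.{u}) {τ₁ : (↥M → ℂ) → G → ℂ}
    (h1 : IsLinearIsometryOn (zspan (calS M)) τ₁)
    (hag : ∀ α ∈ zspanOn (calS M) {1}ᶜ, τ₁ α = tau M α) {ζ : ↥M → ℂ} (hζ : ζ ∈ calS M)
    (hζi : IsIrrCharacter ↥M ζ) (hζ1 : ζ 1 = (Nat.card W₁ : ℂ)) {g : G}
    (hg : g ∉ Dade.support (typeA0 M) (supportR M)) : τ₁ ζ g = colSum η 1 g := by
  classical
  haveI := Fintype.ofFinite (↥(W₁ ⊔ W₂) →* ℂˣ)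
  obtain ⟨j, hj, hj1⟩ := exists_rightSet_ne_one c.hP.selfNormalizing
  set φ := colSum μ j with hφdef
  have hφ : φ ∈ calS M := c.hcol j hj hj1
  have hζ' : conjFun ζ ∈ calS M := c.hsys.conj_mem ζ hζ
  have hζ'i : IsIrrCharacter ↥M (conjFun ζ) := isIrrCharacter_conj hζi
  have hw3 := c.three_le
  have hne : ζ ≠ φ := fun e => by
    have := c.col_norm j
    rw [← hφdef, ← e, classInner_isIrr_self hζi] at this
    have : (1 : ℕ) = Nat.card W₁ := by exact_mod_cast this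
    omega
  have hne' : conjFun ζ ≠ φ := fun e => by
    have := c.col_norm j
    rw [← hφdef, ← e, classInner_isIrr_self hζ'i] at this
    have : (1 : ℕ) = Nat.card W₁ := by exact_mod_cast this
    omega
  have hexact : ∀ i ∈ leftSet W₁ W₂, tau M (alphaFun μ ζ ε n i j) =
      (ε : ℂ) • (η (i * j) - η i) - (n : ℂ) • τ₁ ζ ∧
      classInner (tau M (alphaFun μ ζ ε n i j)) (τ₁ φ) = 1 := by
    intro i hi
    set α := alphaFun μ ζ ε n i j
    have hX : IsGeneralizedCharacter G (tau M α) :=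
      S1501.result _ _ _ c.dade α (c.alpha_gen hζ) fun x hx => c.alpha_supp hζ hζ1 hi hj hj1 hx
    have hXX : classInner (tau M α) (tau M α) = (2 : ℂ) + (n : ℂ) * n := by
      rw [tau, (S1500.result (typeA0 M) M (supportR M) c.dade α
        (isGen_isClassFunction (c.alpha_gen hζ)) fun x hx => c.alpha_supp hζ hζ1 hi hj hj1 hx).1 α
          (isGen_isClassFunction (c.alpha_gen hζ)) fun x hx => c.alpha_supp hζ hζ1 hi hj hj1 hx]
      exact c.alpha_norm hζ hζi hζ1 hi hj hj1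
    obtain ⟨a, ha⟩ := classInner_gen_int hX (h1.2.2.2 _ (Isometry.mem_zS hζ))
    have hcζ' : classInner (tau M α) (τ₁ (conjFun ζ)) = ((n + a : ℤ) : ℂ) := by
      have h0 : classInner α (conjFun ζ) = 0 := by
        simp only [α, alphaFun, classInner_sub_left, classInner_smul_left,
          c.inner_mu_irr hζ' hζ'i, conj_orth c.hsys hζ, mul_zero, sub_zero]
      rw [c.coef hζ hζi hζ1 hi hj hj1 subset_rfl h1 hag hζ hζ' (k := 1) (by
        rw [conj_one c.hsys hζ, hζ1, Int.cast_one, one_mul]), h0, ha]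
      push_cast; ring
    have hcφ : classInner (tau M α) (τ₁ φ) = ((1 + d * (n + a) : ℤ) : ℂ) := by
      rw [c.coef hζ hζi hζ1 hi hj hj1 subset_rfl h1 hag hζ hφ (k := d) (by
        rw [hφdef, c.col_one hj hj1, Int.cast_natCast]), c.alpha_col hζ hi hj hj1 hne, ha]
      push_cast; ring
    set ff : Fin 3 → (↥M → ℂ) := ![ζ, conjFun ζ, φ]
    set nn : Fin 3 → ℕ := ![1, 1, Nat.card W₁]
    set uu : Fin 3 → ℤ := ![a, n + a, 1 + d * (n + a)]
    have hmem : ∀ k, ff k ∈ calS M := by intro k; fin_cases k <;> simp [ff, hζ, hζ', hφ]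
    have hff : ∀ k l, classInner (ff k) (ff l) = if k = l then (nn k : ℂ) else 0 := by
      intro k l
      have o1 := conj_orth c.hsys hζ
      have o2 := c.hsys.orthogonal ζ hζ φ hφ hne
      have o3 := c.hsys.orthogonal _ hζ' φ hφ hne'
      have s1 := classInner_isIrr_self hζi
      have s2 := classInner_isIrr_self hζ'i
      have s3 : classInner φ φ = (Nat.card W₁ : ℂ) := c.col_norm j
      fin_cases k <;> fin_cases l <;>
        simp [ff, nn, o1, o2, o3, s1, s2, s3, inner_comm_zero o1, inner_comm_zero o2,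
          inner_comm_zero o3]
    have hb := bessel (s := (Finset.univ : Finset (Fin 3))) (f := fun k => τ₁ (ff k)) (n := nn)
      (fun k _ => by fin_cases k <;> simp [nn, -Nat.card_eq_fintype_card, Nat.card_pos])
      (fun k _ l _ => by
        rw [h1.2.2.1 _ (Isometry.mem_zS (hmem k)) _ (Isometry.mem_zS (hmem l)), hff])
      (v := tau M α) (u := uu) (fun k _ => by
        fin_cases k
        · simpa [ff, uu] using ha
        · simpa [ff, uu] using hcζ'
        · simpa [ff, uu] using hcφ)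
    rw [hXX, Fin.sum_univ_three] at hb
    simp [nn, uu, -Nat.card_eq_fintype_card] at hb
    set w : ℤ := (Nat.card W₁ : ℤ)
    have hwR : (0 : ℝ) < (Nat.card W₁ : ℝ) := Nat.cast_pos.2 Nat.card_pos
    have hb' : w * (a ^ 2 + (n + a) ^ 2) + (1 + d * (n + a)) ^ 2 ≤ w * (2 + n * n) := by
      have : ((w * (a ^ 2 + (n + a) ^ 2) + (1 + d * (n + a)) ^ 2 : ℤ) : ℝ) ≤
          ((w * (2 + n * n) : ℤ) : ℝ) := by
        push_cast [w]
        have h' := mul_le_mul_of_nonneg_left hb hwR.le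
        rw [mul_add, mul_div_cancel₀ _ hwR.ne'] at h'
        linarith
      exact_mod_cast this
    have hm : n + a = 0 := by
      by_contra hne0
      set m := n + a with hm
      have hd := c.hc.eq
      have hd2 : (2 : ℤ) ≤ d := by exact_mod_cast c.hc.two_le
      have ha' : a = m - n := by omega
      have e1 : 2 * w * m ^ 2 + 2 * ε * m + 1 + (d : ℤ) ^ 2 * m ^ 2 ≤ 2 * w := by
        rw [ha'] at hb'
        have : n * w = (d : ℤ) - ε := by linarith
        linear_combination hb' + 2 * m * this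
      have e2 : 1 ≤ m ^ 2 := by
        have : 0 < m ^ 2 := by positivity
        omega
      have e3 : -(2 * ε * m) ≤ 2 * m ^ 2 := by
        rcases c.hc.sign with h | h <;> rw [h] <;> nlinarith [sq_nonneg (m - 1), sq_nonneg (m + 1)]
      have e4 : (4 : ℤ) * m ^ 2 ≤ (d : ℤ) ^ 2 * m ^ 2 := by
        apply mul_le_mul_of_nonneg_right _ (sq_nonneg m)
        nlinarith
      have e5 : 2 * w ≤ 2 * w * m ^ 2 := le_mul_of_one_le_right (by positivity) e2
      linarith
    refine ⟨c.alpha_exact hζ hζi hζ1 hi hj hj1 subset_rfl h1 hag hζ hζ' ?_, ?_⟩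
    · rw [ha, ← Int.cast_neg]
      exact congrArg _ (by omega)
    · rw [hcφ, hm, mul_zero, add_zero, Int.cast_one]
  have horth := c.image_orth hζ hζi hζ1 subset_rfl h1 hag hζ hζ'
  have hδj : δ j = (ε : ℂ) := by
    have := c.hc.delta 1 CyclicTI.isLeft_one j hj hj1
    rwa [show (1 : ↥(W₁ ⊔ W₂) →* ℂˣ) * j = j from MonoidHom.ext fun w => by simp] at this
  have hzφ : classInner (τ₁ ζ) (τ₁ φ) = 0 := by
    rw [h1.2.2.1 _ (Isometry.mem_zS hζ) _ (Isometry.mem_zS hφ)]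
    exact c.hsys.orthogonal ζ hζ φ hφ hne
  have hcol : τ₁ φ = δ j • colSum η j := by
    refine (hCI c.hG M W₁ U W₂ c.hM c.hP η c.hη μ δ c.hμ (calS M) subset_rfl c.hsys.conj_mem τ₁ h1
      hag j hj hj1 hφ ⟨ζ, hζ, hne, fun e => hne' (by rw [e, conjFun_conjFun])⟩).resolve_right ?_
    intro e
    obtain ⟨hX, hone⟩ := hexact 1 CyclicTI.isLeft_one
    rw [hX, classInner_sub_left, classInner_smul_left (n : ℂ),
      hzφ, mul_zero, sub_zero, e, colSum_eq, ← neg_smul, classInner_smul_right, classInner_sum_right,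
      Finset.sum_eq_zero, mul_zero] at hone
    · exact zero_ne_one hone
    intro a ha
    have hj' : j⁻¹ ∈ rightSet W₁ W₂ := fun w hw => by rw [MonoidHom.inv_apply, hj w hw, inv_one]
    have n1 : 1 * j ≠ a * j⁻¹ := fun e => c.inv_ne hj1 (c.split.mul_inj CyclicTI.isLeft_one
      (mem_lefts.1 ha) hj hj' e).2.symm
    have n2 : (1 : ↥(W₁ ⊔ W₂) →* ℂˣ) ≠ a * j⁻¹ := fun e => by
      have hinv := (c.split.mul_inj (φ := a) (φ' := 1) (ψ' := 1) (mem_lefts.1 ha)
        CyclicTI.isLeft_one hj' CyclicTI.isRight_one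
        (e.symm.trans (MonoidHom.ext fun w => by simp))).2
      exact hj1 (MonoidHom.ext fun w => by simpa using DFunLike.congr_fun hinv w)
    rw [classInner_smul_left, classInner_sub_left, c.hη.orthonormal, c.hη.orthonormal, if_neg n1,
      if_neg n2, sub_zero, mul_zero]
  -- the two relations at `g`
  have hA : (ε : ℂ) * colSum η j g = (d : ℂ) * τ₁ ζ g := by
    have hmem : φ - (d : ℤ) • ζ ∈ zspanOn (calS M) {1}ᶜ := Isometry.mem_zspanOn_compl_one
      (Submodule.sub_mem _ (Isometry.mem_zS hφ) (Submodule.smul_mem _ _ (Isometry.mem_zS hζ)))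
      (by rw [Pi.sub_apply, Pi.smul_apply, hφdef, c.col_one hj hj1, hζ1, zsmul_eq_mul,
        Int.cast_natCast, sub_self])
    have h0 : τ₁ (φ - (d : ℤ) • ζ) g = 0 := by rw [hag _ hmem]; exact c.tau_off hg
    rw [Isometry.map_sub' (M := Isometry.zS (calS M)) h1 (Isometry.mem_zS hφ)
      (Submodule.smul_mem _ _ (Isometry.mem_zS hζ)), h1.2.1 ζ (Isometry.mem_zS hζ), hcol,
      Pi.sub_apply, Pi.smul_apply, Pi.smul_apply, hδj, smul_eq_mul, zsmul_eq_mul, Int.cast_natCast,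
      sub_eq_zero] at h0
    exact h0
  have hB : ∀ a ∈ lefts W₁ W₂, (ε : ℂ) * η (a * j) g - (ε : ℂ) * η a g = (n : ℂ) * τ₁ ζ g := by
    intro a ha
    have h0 := congrFun (hexact a (mem_lefts.1 ha)).1 g
    rw [c.tau_off hg, Pi.sub_apply, Pi.smul_apply, Pi.smul_apply, Pi.sub_apply, smul_eq_mul,
      smul_eq_mul] at h0
    linear_combination -h0
  have hsum := Finset.sum_congr rfl hB
  rw [Finset.sum_sub_distrib, ← Finset.mul_sum, ← Finset.mul_sum, Finset.sum_const,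
    card_lefts c.hP.selfNormalizing, nsmul_eq_mul] at hsum
  have hc0 : colSum η 1 g = ∑ a ∈ lefts W₁ W₂, η a g := by
    rw [colSum_eq, Finset.sum_apply]
    exact Finset.sum_congr rfl fun a _ => congrArg (fun ω => η ω g)
      (MonoidHom.ext fun w => by simp)
  rw [colSum_eq, Finset.sum_apply] at hA
  have hd : ((d : ℤ) : ℂ) = ((ε + n * (Nat.card W₁ : ℤ) : ℤ) : ℂ) := by rw [c.hc.eq]
  push_cast at hd
  rw [hc0]
  refine mul_left_cancel₀ c.eps_ne ?_
  linear_combination hsum - hA - τ₁ ζ g * hd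

end Cfsg.Agent.OddChar.TypeP.Noncoherent
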