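import Cfsg.Agent.OddChar.TypeP.Noncoherent.Count
import Cfsg.Agent.OddChar.TypeP.Noncoherent.Values
import Cfsg.Agent.OddChar.TypeP.Noncoherent.Size
import Cfsg.Agent.OddChar.TypeP.Noncoherent.Rho
import Cfsg.Agent.OddChar.TypeP.Noncoherent.Singular
import Cfsg.Agent.OddChar.TypeP.Mu
import Cfsg.Agent.OddChar.TypeP.Subcoherent
import Cfsg.Agent.OddChar.TypeP.ColumnImage
import Cfsg.Agent.OddChar.TypeP.OddSum
import Cfsg.Agent.OddChar.CyclicTI.Family

/-!
# `S(M)` is not coherent for a maximal subgroup of type III, IV or V (Peterfalvi 10.8)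
-/

set_option autoImplicit false
set_option linter.unusedSectionVars false
set_option linter.style.haveILetI false

namespace Cfsg.Agent.OddChar.TypeP.Noncoherent

open Cfsg Subgroup
open Cfsg.Agent.Characters Cfsg.Agent.OddLocal
open Cfsg.Agent.OddChar

universe u

/-- The numerical contradiction. -/
theorem arith {w p N v a0 : ℝ} (hw : 3 ≤ w) (hp : 3 ≤ p) (hv : 5 ≤ v) (hN : 2 * w + 1 ≤ N)
    (ha : a0 ≤ (N * p - 1) + N * ((w - 1) * (p - 1))) :
    0 < (N * p * w) - w ^ 2 - w ^ 2 / (N * p - 1) - a0 - N * w / v := by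
  have h20 : 20 ≤ N * p - 1 := by nlinarith
  have h1 : w ^ 2 / (N * p - 1) ≤ w ^ 2 / 20 :=
    div_le_div_of_nonneg_left (by positivity) (by norm_num) h20
  have h2 : N * w / v ≤ N * w / 5 :=
    div_le_div_of_nonneg_left (by nlinarith) (by norm_num) hv
  nlinarith [mul_le_mul_of_nonneg_right hN (by linarith : (0 : ℝ) ≤ 4 * w - 5)]

variable {G : Type u} [Group G] [Fintype G]

open Classical in
/-- (10.8). -/
theorem noncoherent : NoncoherentStatement.{u} := by
  intro G _ _ hG M _ hM hty hcoh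
  obtain ⟨-, τ₁, h1, hag⟩ := hcoh
  obtain ⟨W₁, U, W₂, hP, hcore⟩ := exists_core hG hM hty
  obtain ⟨hp, T, V, hT, hTP, -, hII, hV, hnc⟩ := exists_partner hG hM hP hcore
  have hodd : Odd (Nat.card ↥(W₁ ⊔ W₂)) := hG.1.of_dvd_nat (card_subgroup_dvd_card _)
  obtain ⟨η, hη⟩ := CyclicTI.exists_family hP.selfNormalizing hodd
  obtain ⟨μ, δ, hμ⟩ := mu hG M W₁ U W₂ hM hP
  obtain ⟨R, hsys, hRirr, hcol, -⟩ := subcoherent hG M W₁ U W₂ hM hP η hη μ δ hμ
  obtain ⟨d, ε, n, hc⟩ := exists_muConst hG.1 hP hp hμ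
  have c : Ctx M W₁ U W₂ η μ δ R d ε n :=
    ⟨hG, hM, hP, hcore, hp, hη, hμ, hc, hsys, hRirr, fun j hj hj1 => (hcol j hj hj1).1⟩
  obtain ⟨ζ, hζ, hζi, hζ1⟩ := c.exists_zeta
  set z := τ₁ ζ with hz
  have hzg : IsGeneralizedCharacter G z := h1.2.2.2 _ (Isometry.mem_zS hζ)
  have hzc := isGen_isClassFunction hzg
  have hone : ∀ g, g ∉ Dade.support (typeA0 M) (supportR M) →
      (orderOf g).Coprime (Nat.card W₁) → 1 ≤ ‖z g‖ := by
    intro g hg hgc
    obtain ⟨k, hk, e⟩ := oddSum W₁ W₂ hP.selfNormalizing hodd η hη g hgc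
    rw [hz, c.values_off columnImage h1 hag hζ hζi hζ1 hg, e, Complex.norm_intCast]
    have hk0 : k ≠ 0 := fun h => by rw [h] at hk; exact absurd hk (by decide)
    exact_mod_cast Int.one_le_abs hk0
  have hout := outside_sum hG hM hP hcore hT hTP hII hnc hzg hone
  have hrho := c.rho_norm h1 hag hζ hζ1 hζi
  have hκ := kappa_nonempty_of_typeP hG hM hP
  have hDA := (DadeSets.main hG hM _ (Or.inr (Or.inl rfl))).2
  have e0 := sum_support_bot c.dade (fun a ha => supportR_eq_bot hG hM hκ ha) (fun _ => 1)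
    fun _ _ => rfl
  have e1 := sum_support_bot hDA (fun a ha => supportR_eq_bot hG hM hκ (Or.inl ha))
    (fun g => ‖z g‖ ^ 2) fun g y => by rw [hzc g y]
  simp only [Finset.sum_const, nsmul_eq_mul, mul_one] at e0
  have hsum : ∑ a ∈ Finset.univ.filter (fun a : M => a ∈ derivedIn M ∧ a ≠ 1), ‖z (a : G)‖ ^ 2 =
      ∑ a ∈ Finset.univ.filter (fun a : G => a ∈ typeA M), ‖z a‖ ^ 2 := by
    rw [show Finset.univ.filter (fun a : G => a ∈ typeA M) =
        (Finset.univ.filter (fun a : M => a ∈ derivedIn M ∧ a ≠ 1)).map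
          ⟨Subtype.val, Subtype.val_injective⟩ from ?_, Finset.sum_map]
    · rfl
    ext a
    simp only [Finset.mem_map, Finset.mem_filter, Finset.mem_univ, true_and,
      Function.Embedding.coeFn_mk, typeA_eq_core hP hG hM hcore]
    constructor
    · intro ha
      exact ⟨⟨a, commutator_le_self M ha.1⟩, ⟨ha.1, fun e => ha.2 (congrArg Subtype.val e)⟩, rfl⟩
    · rintro ⟨b, ⟨hb, hb1⟩, rfl⟩
      exact ⟨hb, fun e => hb1 (Subtype.ext e)⟩
  -- the norm of `z`
  have hnorm : ∑ g : G, ‖z g‖ ^ 2 = (Nat.card G : ℝ) := by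
    have h2 : classInner z z = classInner ζ ζ :=
      h1.2.2.1 _ (Isometry.mem_zS hζ) _ (Isometry.mem_zS hζ)
    rw [classInner_isIrr_self hζi, Coherence.self_eq] at h2
    have h3 : (Nat.card G : ℝ)⁻¹ * ∑ g : G, ‖z g‖ ^ 2 = 1 := by exact_mod_cast h2
    rwa [inv_mul_eq_one₀ (Nat.cast_ne_zero.2 Nat.card_pos.ne'), eq_comm] at h3
  set In := Finset.univ.filter (fun g => g ∈ Dade.support (typeA M) (supportR M))
  set In0 := Finset.univ.filter (fun g => g ∈ Dade.support (typeA0 M) (supportR M))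
  set Out := Finset.univ.filter (fun g => g ∉ Dade.support (typeA0 M) (supportR M))
  have hsplit : ∑ g ∈ In, ‖z g‖ ^ 2 + ∑ g ∈ Out, ‖z g‖ ^ 2 ≤ (Nat.card G : ℝ) := by
    rw [← hnorm, ← Finset.sum_filter_add_sum_filter_not Finset.univ
      (fun g => g ∈ Dade.support (typeA0 M) (supportR M))]
    refine add_le_add (Finset.sum_le_sum_of_subset_of_nonneg ?_ fun _ _ _ => by positivity) le_rfl
    intro g hg
    obtain ⟨a, ha, rest⟩ := (Finset.mem_filter.1 hg).2
    exact Finset.mem_filter.2 ⟨Finset.mem_univ _, a, Or.inl ha, rest⟩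
  have hcards : (In0.card : ℝ) + (Out.card : ℝ) = (Nat.card G : ℝ) := by
    have := Finset.card_filter_add_card_filter_not (s := (Finset.univ : Finset G))
      (fun g => g ∈ Dade.support (typeA0 M) (supportR M))
    rw [Finset.card_univ, ← Nat.card_eq_fintype_card] at this
    exact_mod_cast this
  obtain ⟨N, hNp, hA0⟩ := card_typeA0_le hG hM hP hcore
  have hA0' : ((Finset.univ.filter (fun a => a ∈ typeA0 M)).card : ℝ) =
      ((typeA0 M).ncard : ℝ) := by
    rw [Set.ncard_eq_toFinset_card']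
    congr 2
    ext a
    simp
  rw [hA0'] at e0
  -- numerical data
  have hw3 := c.three_le
  have hp3 : 3 ≤ Nat.card W₂ := by
    obtain ⟨k, hk⟩ := hG.1.of_dvd_nat (card_subgroup_dvd_card W₂)
    have := hp.two_le
    omega
  have hv5 := five_le_card hG hTP hV hp
  have hN : 2 * Nat.card W₁ + 1 ≤ N := by
    have := c.card_bound
    rw [← hNp] at this
    exact Nat.le_of_mul_le_mul_right this hp.pos
  have hT' : (Nat.card T : ℝ) =
      (Nat.card (fittingHallOf T) : ℝ) * (Nat.card V : ℝ) * (Nat.card W₂ : ℝ) := by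
    exact_mod_cast card_partner hTP
  have hh : (Nat.card (⁅M, M⁆ : Subgroup G) : ℝ) = (N : ℝ) * (Nat.card W₂ : ℝ) := by
    exact_mod_cast hNp.symm
  have hMc : (Nat.card M : ℝ) = (N : ℝ) * (Nat.card W₂ : ℝ) * (Nat.card W₁ : ℝ) := by
    rw [card_eq hP, Nat.cast_mul, hh]
  rw [hh] at hA0 hrho
  have harith := arith (w := (Nat.card W₁ : ℝ)) (p := (Nat.card W₂ : ℝ)) (N := (N : ℝ))
    (v := (Nat.card V : ℝ)) (by exact_mod_cast hw3) (by exact_mod_cast hp3)
    (by exact_mod_cast hv5) (by exact_mod_cast hN) hA0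
  rw [hMc] at hrho e0 e1
  rw [hsum] at hrho
  have hGp : (0 : ℝ) < (Nat.card G : ℝ) := Nat.cast_pos.2 Nat.card_pos
  have hQ : (0 : ℝ) < (Nat.card (fittingHallOf T) : ℝ) := Nat.cast_pos.2 Nat.card_pos
  have hvp : (0 : ℝ) < (Nat.card V : ℝ) := Nat.cast_pos.2 Nat.card_pos
  have hpp : (0 : ℝ) < (Nat.card W₂ : ℝ) := Nat.cast_pos.2 Nat.card_pos
  have hfrac : (Nat.card G : ℝ) * (Nat.card (fittingHallOf T) : ℝ) / (Nat.card T : ℝ) *
      ((N : ℝ) * (Nat.card W₂ : ℝ) * (Nat.card W₁ : ℝ)) =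
      (Nat.card G : ℝ) * ((N : ℝ) * (Nat.card W₁ : ℝ) / (Nat.card V : ℝ)) := by
    rw [hT']
    field_simp
  have hm0 : (0 : ℝ) ≤ (N : ℝ) * (Nat.card W₂ : ℝ) * (Nat.card W₁ : ℝ) := by positivity
  have k1 := mul_le_mul_of_nonneg_left hsplit hm0
  have k2 := mul_le_mul_of_nonneg_left hout hm0
  have k3 := mul_le_mul_of_nonneg_left hrho hGp.le
  rw [← e1] at k3
  nlinarith [mul_pos hGp harith]

end Cfsg.Agent.OddChar.TypeP.Noncoherent
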