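import Cfsg.Agent.OddChar.TypeP.Interfaces
import Cfsg.Agent.OddChar.Final.Wrapper
import Cfsg.Agent.OddChar.TypeOne.Gap.Supports
import Cfsg.Agent.OddLocal.DadeSets
import Cfsg.Agent.OddLocal.TypeTwoTI
import Cfsg.Agent.S1496

/-!
# A maximal subgroup of type P: data, partner and the sets attached to it
-/

set_option autoImplicit false
set_option linter.unusedSectionVars false

namespace Cfsg.Agent.OddChar.TypeP.Noncoherent

open Cfsg Subgroup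
open Cfsg.Agent.OddLocal
open Cfsg.Agent.Transfer.Fusion (map_conj_eq_self_iff map_conj_inv_cancel map_conj_mul)

universe u

variable {G : Type u} [Group G] [Finite G] {M W₁ U W₂ : Subgroup G}

/-- Maximal subgroups with type P data have non-empty `κ`. -/
theorem kappa_nonempty_of_typeP (hG : IsMinSimpleOddOrder G) (hM : IsCoatom M)
    (hP : IsTypePWith M W₁ U W₂) : (kappa M).Nonempty := by
  obtain ⟨K, V, hKV⟩ := Fcore.exists_decomp hG hM
  exact Types.kappa_nonempty hKV (Types.K_ne_bot_of_typeP hG hM hKV hP)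

theorem not_typeI_of_typeP (hG : IsMinSimpleOddOrder G) (hM : IsCoatom M)
    (hP : IsTypePWith M W₁ U W₂) : ¬ IsOfTypeI M := fun h =>
  Set.not_nonempty_empty ((TypeOne.Gap.typeI_iff hG hM).mp h ▸ kappa_nonempty_of_typeP hG hM hP)

/-- A maximal subgroup of type P is not supported. -/
theorem centralizer_le (hG : IsMinSimpleOddOrder G) (hM : IsCoatom M) (hκ : (kappa M).Nonempty)
    {a : G} (ha : a ∈ typeA0 M) : centralizer ({a} : Set G) ≤ M := by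
  by_contra h
  obtain ⟨K, V, hKV⟩ := Fcore.exists_decomp hG hM
  obtain ⟨hsub, -, -⟩ := DadeSets.three_sets hG hM hKV (typeA0 M) (Or.inr (Or.inr rfl))
  obtain ⟨ha0, ha1⟩ := hsub a ha
  have haσ := (DadeSets.fusion_centralizer hG hM hKV ha0 ha1).2 h
  exact Set.not_nonempty_empty (TypeOne.Gap.kappa_empty_of_not_le hG hM haσ ha1 h ▸ hκ)

theorem supportR_eq_bot (hG : IsMinSimpleOddOrder G) (hM : IsCoatom M) (hκ : (kappa M).Nonempty)
    {a : G} (ha : a ∈ typeA0 M) : supportR M a = ⊥ :=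
  SupportR.supportR_of_le (centralizer_le hG hM hκ ha)

/-- For types III, IV and V there are data with `M_s = M'`. -/
theorem exists_core (hG : IsMinSimpleOddOrder G) (hM : IsCoatom M)
    (h : IsOfTypeIII M ∨ IsOfTypeIV M ∨ IsOfTypeV M) :
    ∃ W₁ U W₂ : Subgroup G, IsTypePWith M W₁ U W₂ ∧ typeCore M = ⁅M, M⁆ := by
  obtain ⟨K, V, hKV⟩ := Fcore.exists_decomp hG hM
  have key : (IsOfTypeIII M ∨ IsOfTypeIV M ∨ IsOfTypeV M) → V = ⊥ := by
    rintro (h | h | h)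
    exacts [(Types.of_typeIII_or_IV hG hM hKV (Or.inl h)).2.1,
      (Types.of_typeIII_or_IV hG hM hKV (Or.inr h)).2.1, (Types.of_typeV hG hM hKV h).2.1]
  obtain ⟨W₁, U, W₂, hP⟩ : IsOfTypeP M := by
    rcases h with h | h | h <;> obtain ⟨a, b, c, hP, -⟩ := h <;> exact ⟨a, b, c, hP⟩
  refine ⟨W₁, U, W₂, hP, ?_⟩
  rw [Types.typeCore_eq hG hM,
    PType.commutator_eq hG hM hKV (Types.K_ne_bot_of_typeP hG hM hKV hP), key h, bot_sup_eq]

theorem derived_le_normalizer (M : Subgroup G) : M ≤ normalizer ((⁅M, M⁆ : Subgroup G) : Set G) :=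
  OddLocal.Coprime.le_normalizer_commutator_self le_normalizer

/-- `W₁` is a Hall `κ`-subgroup and `W₂` is its star. -/
theorem hall_data (hG : IsMinSimpleOddOrder G) (hM : IsCoatom M) (hP : IsTypePWith M W₁ U W₂) :
    IsPiHallOf (kappa M) W₁ M ∧ PType.star M W₁ = W₂ := by
  obtain ⟨K, V, hKV⟩ := Fcore.exists_decomp hG hM
  obtain ⟨m, hm, h1, h2⟩ :=
    TypeTwo.data_conj hG hM hKV (Types.K_ne_bot_of_typeP hG hM hKV hP) hP
  have hMm : M.map (MulAut.conj m).toMonoidHom = M :=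
    map_conj_eq_self_iff.mpr (le_normalizer hm)
  have hh := PType.hall_map hG hKV.hall m
  rw [hMm, ← h1] at hh
  refine ⟨hh, ?_⟩
  have hs := PType.star_map (M := M) (K := K) m
  rw [hMm, ← h1] at hs
  rw [hs, h2]
  rfl

/-- The partner of a maximal subgroup with `M_s = M'`. -/
theorem exists_partner (hG : IsMinSimpleOddOrder G) (hM : IsCoatom M) (hP : IsTypePWith M W₁ U W₂)
    (hcore : typeCore M = ⁅M, M⁆) :
    (Nat.card W₂).Prime ∧ ∃ T V : Subgroup G, IsCoatom T ∧ IsTypePWith T W₂ V W₁ ∧ IsOfTypeII T ∧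
      fittingHallOf T = sigmaCore T ∧ V ≠ ⊥ ∧
        ∀ g : G, T.map (MulAut.conj g).toMonoidHom ≠ M := by
  obtain ⟨hW1, hW2⟩ := hall_data hG hM hP
  obtain ⟨V₀, hKV⟩ := KappaDecomp.exists_decomposition hG hM hW1 hP.W₁_cyclic
  have hV₀ : V₀ = ⊥ := by
    have hc := PType.commutator_eq hG hM hKV hP.W₁_ne
    rw [← hcore, Types.typeCore_eq hG hM] at hc
    refine le_bot_iff.mp ?_
    calc V₀ ≤ V₀ ⊓ (W₁ ⊔ sigmaCore M) :=
          le_inf le_rfl (le_trans (hc.symm ▸ le_sup_left) le_sup_right)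
      _ = ⊥ := hKV.compl.2.2.1
  obtain ⟨T, h⟩ := PType.exists_pair_of_decomposition hG hM hKV hP.W₁_ne
  rcases h.p2 with ⟨hn, -⟩ | ⟨hn, hp⟩
  · exact absurd hV₀ ((PType.notP1_iff hG hM hKV).mp hn)
  rw [hW2] at hp
  refine ⟨hp, T, ?_⟩
  have := h.cyclic
  obtain ⟨VT, hKT⟩ := KappaDecomp.exists_decomposition hG h.hH h.hKs
    (Subgroup.isCyclic_of_le (le_sup_right : PType.star M W₁ ≤ W₁ ⊔ PType.star M W₁))
  have hS1 : PType.star M W₁ ≠ ⊥ := h.star_ne_bot hG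
  have hVT : VT ≠ ⊥ := (PType.notP1_iff hG h.hH hKT).mp hn
  obtain ⟨V, hTP⟩ := Final.exists_typePWith hG h.hH hKT hS1
  rw [h.hKeq, hW2] at hTP
  obtain ⟨hσ, -⟩ := Types.sigmaCore_eq_of_U_ne hG h.hH hKT hVT
  refine ⟨V, h.hH, hTP, Types.typeII hG h.hH hKT hS1 hVT, hσ.symm, fun e => ?_, fun g e => h.not_conj hG g⁻¹ ?_⟩
  · have hc := hTP.U_compl
    rw [e, PType.commutator_eq hG h.hH hKT hS1, hσ] at hc
    refine hVT (le_bot_iff.mp ?_)
    have hle : VT ≤ PType.star M W₁ ⊔ sigmaCore T := fun v hv => by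
      obtain ⟨a, ha, b, hb, rfl⟩ := hc.2.2.2 v (mem_sup_left hv)
      rw [mem_bot.mp hb, mul_one]
      exact mem_sup_right (hσ.ge ha)
    exact (le_inf le_rfl hle).trans hKT.compl.2.2.1.le
  rw [← e, map_conj_inv_cancel]

section Data

variable (hP : IsTypePWith M W₁ U W₂)
include hP

theorem W₁_le : W₁ ≤ M := hP.W₁_compl.2.1

theorem W₂_le_derived : W₂ ≤ ⁅M, M⁆ := fun x hx =>
  commutator_mono (commutator_le_self M) (commutator_le_self M) (mem_inf.mp (hP.W₂_le hx)).2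

theorem W_le : W₁ ⊔ W₂ ≤ M :=
  sup_le (W₁_le hP) ((W₂_le_derived hP).trans (commutator_le_self M))

theorem mem_W₂_of_derived {w : G} (hw : w ∈ W₁ ⊔ W₂) (hd : w ∈ ⁅M, M⁆) : w ∈ W₂ := by
  obtain ⟨a, b, ha, hb, e⟩ :=
    (CyclicTI.split_of hP.selfNormalizing).exists_mul ⟨w, hw⟩
  have e' : w = (a : G) * b := congrArg Subtype.val e
  have : (a : G) ∈ ⁅M, M⁆ ⊓ W₁ := mem_inf.mpr ⟨by
    have := mul_mem hd (inv_mem (W₂_le_derived hP hb))
    rwa [e', mul_inv_cancel_right] at this, ha⟩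
  rw [hP.W₁_compl.2.2.1, mem_bot] at this
  rw [e', this, one_mul]
  exact hb

theorem card_eq : Nat.card M = Nat.card (⁅M, M⁆ : Subgroup G) * Nat.card W₁ :=
  Basics.card_eq_of_isCompl' hP.W₁_compl.1 hP.W₁_compl.2.1 hP.W₁_compl.2.2.1 hP.W₁_compl.2.2.2

theorem coprime_derived : (Nat.card W₁).Coprime (Nat.card (⁅M, M⁆ : Subgroup G)) := by
  have h : Nat.card W₁ * W₁.relIndex M = Nat.card M := by
    rw [← Nat.card_congr (subgroupOfEquivOfLe (W₁_le hP)).toEquiv]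
    exact card_mul_index (W₁.subgroupOf M)
  rw [card_eq hP, mul_comm (Nat.card (⁅M, M⁆ : Subgroup G))] at h
  rw [← Nat.eq_of_mul_eq_mul_left Nat.card_pos h]
  exact hP.W₁_hall

/-- Elements outside `M'` are conjugate into `W - W₂`. -/
theorem conj_into {x : G} (hx : x ∈ M) (hd : x ∉ ⁅M, M⁆) :
    ∃ m ∈ M, m * x * m⁻¹ ∈ W₁ ⊔ W₂ ∧ m * x * m⁻¹ ∉ W₂ := by
  obtain ⟨k, hk, w, hw, rfl⟩ := hP.W₁_compl.2.2.2 x hx
  have hw1 : w ≠ 1 := fun e => hd (by rwa [e, mul_one])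
  obtain ⟨a, ha, c, hc, hcw, hac⟩ := S1496.result ⁅M, M⁆ w (derived_le_normalizer M (W₁_le hP hw))
    ((coprime_derived hP).coprime_dvd_left (orderOf_dvd_natCard W₁ hw)) k hk
  have hc2 : c ∈ W₂ := by
    rw [← hP.W₂_centralizer w hw hw1]
    exact mem_inf.mpr ⟨hc, mem_centralizer_singleton_iff.mpr hcw⟩
  refine ⟨a, commutator_le_self M ha, hac ▸ mul_mem (mem_sup_right hc2) (mem_sup_left hw),
    fun h => hw1 ?_⟩
  rw [hac] at h
  have : w ∈ W₁ ⊓ W₂ := mem_inf.mpr ⟨hw, by simpa using mul_mem (inv_mem hc2) h⟩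
  rwa [hP.selfNormalizing.2.2.1, mem_bot] at this

/-- The conjugates of `W - W₁ ∪ W₂` in `M`. -/
theorem conj_W_subset_A0 (hG : IsMinSimpleOddOrder G) (hM : IsCoatom M) {m w : G} (hm : m ∈ M)
    (hw : w ∈ W₁ ⊔ W₂) (hw1 : w ∉ W₁) (hw2 : w ∉ W₂) : m * w * m⁻¹ ∈ typeA0 M :=
  Or.inr ⟨not_typeI_of_typeP hG hM hP, W₁, U, W₂, hP, m, hm, w, hw, hw1, hw2, rfl⟩

/-- `A₀` consists of `A` and the conjugates of `W - W₁ ∪ W₂`. -/
theorem typeA0_cases (hG : IsMinSimpleOddOrder G) (hM : IsCoatom M) {v : G} (hv : v ∈ typeA0 M) :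
    v ∈ typeA M ∨ ∃ m ∈ M, ∃ w ∈ W₁ ⊔ W₂, w ∉ W₁ ∧ w ∉ W₂ ∧ v = m * w * m⁻¹ := by
  rcases hv with hv | ⟨-, W₁', U', W₂', hP', n, hn, w, hw, hw1, hw2, rfl⟩
  · exact Or.inl hv
  refine Or.inr ?_
  obtain ⟨hW1, hW2⟩ := hall_data hG hM hP
  obtain ⟨V₀, hKV⟩ := KappaDecomp.exists_decomposition hG hM hW1 hP.W₁_cyclic
  obtain ⟨m, hm, rfl, h2⟩ := TypeTwo.data_conj hG hM hKV hP.W₁_ne hP'
  rw [show sigmaCore M ⊓ centralizer (W₁ : Set G) = W₂ from hW2] at h2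
  subst h2
  rw [← Subgroup.map_sup] at hw
  obtain ⟨z, hz, rfl⟩ := hw
  refine ⟨n * m, mul_mem hn hm, z, hz, fun h => hw1 ⟨z, h, rfl⟩, fun h => hw2 ⟨z, h, rfl⟩, ?_⟩
  show n * (m * z * m⁻¹) * n⁻¹ = _
  group

/-- `A(M) = M' - 1` when `M_s = M'`. -/
theorem typeA_eq_core (hG : IsMinSimpleOddOrder G) (hM : IsCoatom M)
    (hcore : typeCore M = ⁅M, M⁆) : typeA M = ((⁅M, M⁆ : Subgroup G) : Set G) \ {1} := by
  rw [typeA, if_neg (not_typeI_of_typeP hG hM hP), hcore]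
  ext a
  exact ⟨fun h => ⟨h.1, h.2.1⟩, fun h => ⟨h.1, h.2, a, h.1, h.2, rfl⟩⟩

end Data

end Cfsg.Agent.OddChar.TypeP.Noncoherent
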