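import Cfsg.Agent.OddChar.TypeP.Noncoherent.Setting
import Cfsg.Agent.OddChar.TypeP.Noncoherent.Mass
import Cfsg.Agent.OddChar.CyclicTI.Rigid
import Cfsg.Agent.OddChar.CyclicTI.Duals

/-!
# Degrees and signs of the `μ i j` when `|W₂|` is a prime
-/

set_option autoImplicit false
set_option linter.unusedSectionVars false
set_option linter.style.haveILetI false

namespace Cfsg.Agent.OddChar.TypeP.Noncoherent

open Cfsg Subgroup
open Cfsg.Agent.Characters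

universe u

variable {G : Type u} [Group G] {M W₁ U W₂ : Subgroup G}

theorem pow_mem_rightSet {j : ↥(W₁ ⊔ W₂) →* ℂˣ} (hj : j ∈ rightSet W₁ W₂) (k : ℕ) :
    j ^ k ∈ rightSet W₁ W₂ := fun w hw => by rw [MonoidHom.pow_apply, hj w hw, one_pow]

section

variable [Fintype G]

open Classical in
/-- The index set `i` as a finite set. -/
noncomputable def lefts (W₁ W₂ : Subgroup G) [Fintype (↥(W₁ ⊔ W₂) →* ℂˣ)] :
    Finset (↥(W₁ ⊔ W₂) →* ℂˣ) :=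
  Finset.univ.filter fun ω => ω ∈ leftSet W₁ W₂

variable [Fintype (↥(W₁ ⊔ W₂) →* ℂˣ)]

theorem mem_lefts {ω : ↥(W₁ ⊔ W₂) →* ℂˣ} : ω ∈ lefts W₁ W₂ ↔ ω ∈ leftSet W₁ W₂ := by
  classical
  simp [lefts]

theorem colSum_eq {X : Type*} (f : (↥(W₁ ⊔ W₂) →* ℂˣ) → X → ℂ) (j : ↥(W₁ ⊔ W₂) →* ℂˣ) :
    colSum f j = ∑ i ∈ lefts W₁ W₂, f (i * j) := by
  classical
  refine finsum_mem_eq_sum_of_inter_support_eq _ ?_
  ext x
  simp [mem_lefts]

theorem card_lefts (hW : IsSelfNormalizingCyclic W₁ W₂) : (lefts W₁ W₂).card = Nat.card W₁ := by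
  classical
  rw [← CyclicTI.card_left (CyclicTI.split_of hW) (CyclicTI.comm_of hW), Nat.card_eq_fintype_card,
    Fintype.card_subtype]
  rfl

theorem pow_prime_eq_one (hW : IsSelfNormalizingCyclic W₁ W₂) {j : ↥(W₁ ⊔ W₂) →* ℂˣ}
    (hj : j ∈ rightSet W₁ W₂) : j ^ Nat.card W₂ = 1 := by
  refine MonoidHom.ext fun w => ?_
  obtain ⟨a, b, ha, hb, rfl⟩ := (CyclicTI.split_of hW).exists_mul w
  have hb' : b ^ Nat.card W₂ = 1 := Subtype.ext (by
    rw [SubmonoidClass.coe_pow]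
    exact congrArg Subtype.val (pow_card_eq_one' (G := W₂) (x := ⟨b, hb⟩)))
  rw [MonoidHom.pow_apply, map_mul, hj a ha, one_mul, ← map_pow, hb', map_one]
  rfl

/-- With `|W₂|` prime every non-trivial member of the column index set generates it. -/
theorem exists_pow_eq (hW : IsSelfNormalizingCyclic W₁ W₂) (hp : (Nat.card W₂).Prime)
    {j j' : ↥(W₁ ⊔ W₂) →* ℂˣ} (hj : j ∈ rightSet W₁ W₂) (hj1 : j ≠ 1)
    (hj' : j' ∈ rightSet W₁ W₂) : ∃ m, m < Nat.card W₂ ∧ j ^ m = j' := by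
  classical
  have := Fact.mk hp
  have ho : orderOf j = Nat.card W₂ := orderOf_eq_prime (pow_prime_eq_one hW hj) hj1
  set R := Finset.univ.filter fun ω : ↥(W₁ ⊔ W₂) →* ℂˣ => ω ∈ rightSet W₁ W₂
  have hR : R.card = Nat.card W₂ := by
    rw [← CyclicTI.card_right (CyclicTI.split_of hW) (CyclicTI.comm_of hW),
      Nat.card_eq_fintype_card, Fintype.card_subtype]
    rfl
  have himg : (Finset.range (Nat.card W₂)).image (fun m => j ^ m) = R := by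
    refine Finset.eq_of_subset_of_card_le (fun x hx => ?_) ?_
    · obtain ⟨m, -, rfl⟩ := Finset.mem_image.1 hx
      exact Finset.mem_filter.2 ⟨Finset.mem_univ _, pow_mem_rightSet hj m⟩
    · rw [Finset.card_image_of_injOn, Finset.card_range, hR]
      intro a ha b hb e
      exact pow_injOn_Iio_orderOf (x := j) (by simpa [ho] using ha) (by simpa [ho] using hb) e
  have : j' ∈ R := Finset.mem_filter.2 ⟨Finset.mem_univ _, hj'⟩
  rw [← himg, Finset.mem_image] at this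
  obtain ⟨m, hm, e⟩ := this
  exact ⟨m, Finset.mem_range.1 hm, e⟩

theorem exists_rightSet_ne_one (hW : IsSelfNormalizingCyclic W₁ W₂) :
    ∃ j ∈ rightSet W₁ W₂, j ≠ 1 := by
  classical
  by_contra h
  push Not at h
  have h1 := CyclicTI.card_right (CyclicTI.split_of hW) (CyclicTI.comm_of hW)
  have : Subsingleton {φ : ↥(W₁ ⊔ W₂) →* ℂˣ // CyclicTI.IsRight φ} :=
    ⟨fun a b => Subtype.ext ((h a.1 a.2).trans (h b.1 b.2).symm)⟩
  rw [Nat.card_of_subsingleton ⟨1, CyclicTI.isRight_one⟩] at h1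
  exact hW.2.1 (card_eq_one.mp h1.symm)

variable [Fintype M] {μ : (↥(W₁ ⊔ W₂) →* ℂˣ) → ↥M → ℂ} {δ : (↥(W₁ ⊔ W₂) →* ℂˣ) → ℂ}

theorem odd_W (hodd : Odd (Nat.card G)) : Odd (Nat.card ↥(W₁ ⊔ W₂)) :=
  hodd.of_dvd_nat (card_subgroup_dvd_card _)

/-- A power twist of `μ ω` is `μ (ω ^ k)`, with the same sign. -/
theorem mu_comp_pow (hodd : Odd (Nat.card G)) (hP : IsTypePWith M W₁ U W₂)
    (hμ : MuData M W₁ W₂ μ δ) (ω : ↥(W₁ ⊔ W₂) →* ℂˣ) {k : ℕ} (hk : k.Coprime (Nat.card G)) :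
    (fun g : M => μ ω (g ^ k)) = μ (ω ^ k) ∧ δ (ω ^ k) = δ ω := by
  classical
  set θ := fun g : M => μ ω (g ^ k) with hθ
  have hθi : IsIrrCharacter ↥M θ :=
    PowTwist.isIrr_comp_pow (hμ.irr ω) (hk.coprime_dvd_right (card_subgroup_dvd_card M))
  have hδ0 : ∀ ω, δ ω ≠ 0 := fun ω => by rcases hμ.sign ω with h | h <;> rw [h] <;> norm_num
  have hval : ∀ w : ↥(W₁ ⊔ W₂), (w : G) ∉ W₂ →
      θ ⟨w, W_le hP w.2⟩ = δ ω * ((ω ^ k) w : ℂ) := by
    intro w hw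
    obtain ⟨m, hm⟩ := exists_pow_eq_self_of_coprime (x := (w : G)) (n := k)
      (hk.coprime_dvd_right (orderOf_dvd_natCard _))
    have h2 : ((w ^ k : ↥(W₁ ⊔ W₂)) : G) ∉ W₂ := fun h => hw (by
      have := W₂.pow_mem h m; rwa [SubmonoidClass.coe_pow, hm] at this)
    have h3 := hμ.eq_on ω (⟨w, W_le hP w.2⟩ ^ k) (by
      rw [SubmonoidClass.coe_pow]; exact pow_mem w.2 k) h2
    rw [hθ]
    refine h3.trans ?_
    rw [MonoidHom.pow_apply, ← map_pow]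
    rfl
  obtain ⟨ω', hω'⟩ : ∃ ω', θ = μ ω' := by
    by_contra hc
    push Not at hc
    obtain ⟨a, ha, ha1⟩ := CyclicTI.exists_mem_ne_one hP.W₁_ne
    have ha2 : a ∉ W₂ := fun h => ha1 (by
      have : a ∈ W₁ ⊓ W₂ := mem_inf.mpr ⟨ha, h⟩
      rwa [hP.selfNormalizing.2.2.1, mem_bot] at this)
    have h0 := hμ.vanish θ hθi hc ⟨a, W₁_le hP ha⟩ (mem_sup_left ha) ha2
    rw [hval ⟨a, mem_sup_left ha⟩ ha2] at h0
    exact mul_ne_zero (hδ0 ω) (Units.ne_zero _) h0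
  obtain ⟨e1, e2⟩ := CyclicTI.eq_of_agree (CyclicTI.split_of hP.selfNormalizing)
    (CyclicTI.comm_of hP.selfNormalizing) hP.W₁_ne hP.selfNormalizing.2.1 (odd_W hodd) ω' (ω ^ k)
    (δ ω / δ ω') fun w _ hw2 => by
      have h1 := hμ.eq_on ω' ⟨w, W_le hP w.2⟩ w.2 hw2
      rw [← hω', hval w hw2] at h1
      rw [div_mul_eq_mul_div, h1, mul_div_cancel_left₀ _ (hδ0 ω')]
  rw [e1] at hω' e2
  refine ⟨hω', ?_⟩
  rw [div_eq_one_iff_eq (hδ0 _)] at e2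
  exact e2.symm

end

/-- The common degree `d`, sign `ε` and quotient `n = (d - ε) / |W₁|`. -/
structure MuConst (M W₁ W₂ : Subgroup G) [Fintype M] (μ : (↥(W₁ ⊔ W₂) →* ℂˣ) → ↥M → ℂ)
    (δ : (↥(W₁ ⊔ W₂) →* ℂˣ) → ℂ) (d : ℕ) (ε n : ℤ) : Prop where
  two_le : 2 ≤ d
  sign : ε = 1 ∨ ε = -1
  eq : (d : ℤ) = ε + n * Nat.card W₁
  degree : ∀ i ∈ leftSet W₁ W₂, ∀ j ∈ rightSet W₁ W₂, j ≠ 1 → μ (i * j) 1 = (d : ℂ)
  delta : ∀ i ∈ leftSet W₁ W₂, ∀ j ∈ rightSet W₁ W₂, j ≠ 1 → δ (i * j) = (ε : ℂ)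
  left : ∀ i ∈ leftSet W₁ W₂, μ i 1 = 1 ∧ δ i = 1

/-- Existence of the constants. -/
theorem exists_muConst [Fintype G] (hodd : Odd (Nat.card G)) [Fintype M]
    (hP : IsTypePWith M W₁ U W₂) (hp : (Nat.card W₂).Prime)
    {μ : (↥(W₁ ⊔ W₂) →* ℂˣ) → ↥M → ℂ} {δ : (↥(W₁ ⊔ W₂) →* ℂˣ) → ℂ}
    (hμ : MuData M W₁ W₂ μ δ) : ∃ (d : ℕ) (ε n : ℤ), MuConst M W₁ W₂ μ δ d ε n := by
  classical
  haveI := Fintype.ofFinite (↥(W₁ ⊔ W₂) →* ℂˣ)
  have hW := hP.selfNormalizing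
  obtain ⟨j, hj, hj1⟩ := exists_rightSet_ne_one hW
  obtain ⟨a, ha, ha1⟩ := CyclicTI.exists_mem_ne_one hP.W₁_ne
  have ha2 : a ∉ W₂ := fun h => ha1 (by
    have : a ∈ W₁ ⊓ W₂ := mem_inf.mpr ⟨ha, h⟩
    rwa [hW.2.2.1, mem_bot] at this)
  have hδ1 : δ 1 = 1 := by
    have h := hμ.eq_on 1 ⟨a, W₁_le hP ha⟩ (mem_sup_left ha) ha2
    rw [hμ.map_one] at h
    simpa using h.symm
  obtain ⟨d, hd0, hd⟩ := irr_one_pos (hμ.irr j)
  obtain ⟨ε, hε, hεv⟩ : ∃ ε : ℤ, (ε = 1 ∨ ε = -1) ∧ δ j = (ε : ℂ) := by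
    rcases hμ.sign j with h | h
    · exact ⟨1, Or.inl rfl, by simp [h]⟩
    · exact ⟨-1, Or.inr rfl, by simp [h]⟩
  obtain ⟨n, hn⟩ := hμ.degree j
  have hall : ∀ j' ∈ rightSet W₁ W₂, j' ≠ 1 → μ j' 1 = (d : ℂ) ∧ δ j' = (ε : ℂ) := by
    intro j' hj' hj'1
    obtain ⟨m, hm, rfl⟩ := exists_pow_eq hW hp hj hj1 hj'
    have hm0 : m ≠ 0 := fun e => hj'1 (by subst e; exact MonoidHom.ext fun w => by simp [MonoidHom.pow_apply])
    obtain ⟨k, hk, hkm⟩ := exists_coprime_modEq (Nat.card_pos (α := G)).ne'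
      (card_subgroup_dvd_card W₂) (k := m)
      (Nat.Coprime.symm ((Nat.Prime.coprime_iff_not_dvd hp).2 fun h =>
        hm0 (Nat.eq_zero_of_dvd_of_lt h hm)))
    have hjk : j ^ k = j ^ m := MonoidHom.ext fun w => by
      have hjw : j w ^ Nat.card W₂ = 1 := by
        rw [← MonoidHom.pow_apply, pow_prime_eq_one hW hj]; rfl
      rw [MonoidHom.pow_apply, MonoidHom.pow_apply]
      exact pow_eq_pow_iff_modEq.2 (hkm.of_dvd (orderOf_dvd_of_pow_eq_one hjw))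
    obtain ⟨h1, h2⟩ := mu_comp_pow hodd hP hμ j hk
    rw [hjk] at h1 h2
    refine ⟨?_, h2.trans hεv⟩
    rw [← congrFun h1 1, one_pow, hd]
  refine ⟨d, ε, n, ?_, hε, ?_, fun i hi j' hj' hj'1 => ?_, fun i hi j' hj' hj'1 => ?_,
    fun i hi => ?_⟩
  · by_contra hlt
    have hd1 : d = 1 := by omega
    set lam := linearOfDegreeOne (isCharacter_of_isIrr (hμ.irr j)) (by rw [hd, hd1, Nat.cast_one])
    refine hj1 (MonoidHom.ext fun w => ?_)
    obtain ⟨a', b, ha', hb, rfl⟩ := (CyclicTI.split_of hW).exists_mul w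
    rw [map_mul, hj a' ha', one_mul]
    set a₁ : ↥(W₁ ⊔ W₂) := ⟨a, mem_sup_left ha⟩
    have hb2 : ((a₁ * b : ↥(W₁ ⊔ W₂)) : G) ∉ W₂ := fun h => ha2 (by
      have := mul_mem h (inv_mem hb)
      simpa [a₁] using this)
    have h1 := hμ.eq_on j ⟨_, W_le hP (a₁ * b).2⟩ (a₁ * b).2 hb2
    have h2 := hμ.eq_on j ⟨_, W_le hP a₁.2⟩ a₁.2 ha2
    have hker : lam ⟨(b : G), W_le hP b.2⟩ = 1 := by
      have hb' : (⟨(b : G), W_le hP b.2⟩ : M) ∈ commutator ↥M := by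
        have := W₂_le_derived hP hb
        rw [← map_subtype_commutator] at this
        exact (mem_map_iff_mem M.subtype_injective).1 this
      exact Abelianization.commutator_subset_ker lam hb'
    have h3 : μ j ⟨_, W_le hP (a₁ * b).2⟩ = μ j ⟨_, W_le hP a₁.2⟩ := by
      have := congrArg Units.val (map_mul lam ⟨(a₁ : G), W_le hP a₁.2⟩ ⟨(b : G), W_le hP b.2⟩)
      rw [hker, mul_one] at this
      exact this
    rw [h1, h2] at h3
    have h4 : j (a₁ * b) = j a₁ := Units.ext (mul_left_cancel₀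
      (by rcases hμ.sign j with h | h <;> rw [h] <;> norm_num) h3)
    rw [map_mul, mul_eq_left] at h4
    rw [h4]
    rfl
  · have : ((d : ℤ) : ℂ) = ((ε + n * (Nat.card W₁ : ℤ) : ℤ) : ℂ) := by
      rw [hd, hεv] at hn
      push_cast
      linear_combination hn
    exact_mod_cast this
  · rw [hμ.col_degree i hi j', (hall j' hj' hj'1).1]
  · rw [hμ.sign_col i hi j', (hall j' hj' hj'1).2]
  · have h1 : i * 1 = i := MonoidHom.ext fun w => by simp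
    refine ⟨?_, ?_⟩
    · have := hμ.col_degree i hi 1
      rwa [h1, hμ.map_one] at this
    · have := hμ.sign_col i hi 1
      rwa [h1, hδ1] at this

end Cfsg.Agent.OddChar.TypeP.Noncoherent
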