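import Cfsg.Agent.OddChar.TypeP.Noncoherent.Basic

/-!
# The image of `μ i j - δ μ i 0 - n ζ` (Peterfalvi 10.5, 10.6)
-/

set_option autoImplicit false
set_option linter.unusedSectionVars false
set_option linter.style.haveILetI false

namespace Cfsg.Agent.OddChar.TypeP.Noncoherent

open Cfsg Subgroup
open Cfsg.Agent.Characters Cfsg.Agent.OddChar.Coherence Cfsg.Agent.OddChar.Signed
open scoped ComplexConjugate

universe u

variable {G : Type u} [Group G] [Fintype G] {M W₁ U W₂ : Subgroup G} [Fintype M]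
  {η : (↥(W₁ ⊔ W₂) →* ℂˣ) → G → ℂ} {μ : (↥(W₁ ⊔ W₂) →* ℂˣ) → ↥M → ℂ}
  {δ : (↥(W₁ ⊔ W₂) →* ℂˣ) → ℂ} {R : (↥M → ℂ) → Finset (G → ℂ)} {d : ℕ} {ε n : ℤ}

/-- A class function orthogonal to the family vanishes on `W - W₁ ∪ W₂`. -/
theorem vanish_of_orth (hW : IsSelfNormalizingCyclic W₁ W₂) (hη : IsCyclicTIFamily W₁ W₂ η)
    {θ : G → ℂ} (hθ : IsClassFunction G θ) (h0 : ∀ ω, classInner θ (η ω) = 0)
    {w : ↥(W₁ ⊔ W₂)} (n1 : (w : G) ∉ W₁) (n2 : (w : G) ∉ W₂) : θ w = 0 := by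
  classical
  haveI := Fintype.ofFinite ↥(W₁ ⊔ W₂)
  refine CyclicTI.eq_zero_of_orth (CyclicTI.split_of hW) (CyclicTI.comm_of hW) (fun v => θ v) ?_
    n1 n2
  intro φ ψ hφ hψ h1 h2
  have hor : ∀ ω, classInner (η ω) θ = 0 := fun ω => inner_comm_zero (h0 ω)
  have he : indFun (W₁ ⊔ W₂) (CyclicTI.alpha φ ψ) = η 1 - η φ - η ψ + η (φ * ψ) := by
    refine (hη.induced_eq φ ψ h1 h2 hφ hψ).trans ?_
    rw [hη.map_one]; rfl
  have hf := frobenius_reciprocity (W₁ ⊔ W₂) (CyclicTI.alpha φ ψ) hθ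
  rw [he] at hf
  simp only [classInner_add_left, classInner_sub_left, hor, sub_zero, add_zero] at hf
  exact inner_comm_zero hf.symm

/-- `μ i j - ε μ i - n ζ`. -/
noncomputable def alphaFun (μ : (↥(W₁ ⊔ W₂) →* ℂˣ) → ↥M → ℂ) (ζ : ↥M → ℂ) (ε n : ℤ)
    (i j : ↥(W₁ ⊔ W₂) →* ℂˣ) : ↥M → ℂ :=
  μ (i * j) - (ε : ℂ) • μ i - (n : ℂ) • ζ

variable (c : Ctx M W₁ U W₂ η μ δ R d ε n) {ζ : ↥M → ℂ} {i j : ↥(W₁ ⊔ W₂) →* ℂˣ}
include c

theorem Ctx.split : CyclicTI.Split W₁ W₂ := CyclicTI.split_of c.hP.selfNormalizing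

theorem Ctx.left_ne (hi : i ∈ leftSet W₁ W₂) (hj : j ∈ rightSet W₁ W₂) (hj1 : j ≠ 1) :
    i * j ≠ i := fun e =>
  hj1 (c.split.mul_inj (φ := i) (φ' := i) (ψ' := 1) hi hi hj CyclicTI.isRight_one
    (e.trans (MonoidHom.ext fun w => by simp))).2

theorem Ctx.eps_ne : (ε : ℂ) ≠ 0 := by
  rcases c.hc.sign with h | h <;> rw [h] <;> norm_num

theorem Ctx.eps_sq : (ε : ℂ) * (ε : ℂ) = 1 := by
  rcases c.hc.sign with h | h <;> rw [h] <;> norm_num

theorem Ctx.eta_gen (ω : ↥(W₁ ⊔ W₂) →* ℂˣ) : IsGeneralizedCharacter G (η ω) :=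
  IsSIrr.isGen (c.hη.irr_or_neg ω)

section Alpha

variable (hζ : ζ ∈ calS M) (hζi : IsIrrCharacter ↥M ζ) (hζ1 : ζ 1 = (Nat.card W₁ : ℂ))
  (hi : i ∈ leftSet W₁ W₂) (hj : j ∈ rightSet W₁ W₂) (hj1 : j ≠ 1)
include hζ

theorem Ctx.alpha_gen : IsGeneralizedCharacter ↥M (alphaFun μ ζ ε n i j) :=
  isGen_sub (isGen_sub (isGen_of_isCharacter (isCharacter_of_isIrr (c.hμ.irr _)))
    (isGen_intSmul (isGen_of_isCharacter (isCharacter_of_isIrr (c.hμ.irr _))) ε))
    (isGen_intSmul (c.member hζ).1 n)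

include hi hj hj1

theorem Ctx.alpha_on {w : ↥(W₁ ⊔ W₂)} (hw : (w : G) ∉ W₂) :
    alphaFun μ ζ ε n i j ⟨w, W_le c.hP w.2⟩ = (ε : ℂ) * (((i * j) w : ℂ) - (i w : ℂ)) := by
  have h0 : ζ ⟨w, W_le c.hP w.2⟩ = 0 :=
    (c.member hζ).2.2 _ fun h => hw (mem_W₂_of_derived c.hP w.2 h)
  rw [alphaFun, Pi.sub_apply, Pi.sub_apply, Pi.smul_apply, Pi.smul_apply, h0,
    c.hμ.eq_on _ ⟨w, W_le c.hP w.2⟩ w.2 hw, c.hμ.eq_on _ ⟨w, W_le c.hP w.2⟩ w.2 hw,
    c.hc.delta i hi j hj hj1, (c.hc.left i hi).2, smul_eq_mul, smul_eq_mul]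
  ring

include hζ1

theorem Ctx.alpha_one : alphaFun μ ζ ε n i j 1 = 0 := by
  rw [alphaFun, Pi.sub_apply, Pi.sub_apply, Pi.smul_apply, Pi.smul_apply,
    c.hc.degree i hi j hj hj1, (c.hc.left i hi).1, hζ1, smul_eq_mul, smul_eq_mul]
  have h : ((d : ℤ) : ℂ) = ((ε + n * (Nat.card W₁ : ℤ) : ℤ) : ℂ) := by rw [c.hc.eq]
  push_cast at h
  linear_combination h

theorem Ctx.alpha_supp {x : M} (hx : (x : G) ∉ typeA0 M) : alphaFun μ ζ ε n i j x = 0 := by
  by_cases hd : (x : G) ∈ ⁅M, M⁆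
  · by_cases h1 : x = 1
    · rw [h1]; exact c.alpha_one hζ hζ1 hi hj hj1
    · refine absurd (Or.inl ?_) hx
      rw [typeA_eq_core c.hP c.hG c.hM c.hcore]
      exact ⟨hd, fun e => h1 (Subtype.ext e)⟩
  · obtain ⟨m, hm, hw, hw2⟩ := conj_into c.hP x.2 hd
    have hcl := isGen_isClassFunction (c.alpha_gen hζ (i := i) (j := j))
    rw [← hcl x ⟨m, hm⟩]
    have e : (⟨m, hm⟩ * x * ⟨m, hm⟩⁻¹ : M) = ⟨m * x * m⁻¹, W_le c.hP hw⟩ := rfl
    rw [e, c.alpha_on hζ hi hj hj1 (w := ⟨_, hw⟩) hw2]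
    by_cases hw1 : m * (x : G) * m⁻¹ ∈ W₁
    · rw [MonoidHom.mul_apply, hj ⟨_, hw⟩ hw1, mul_one, sub_self, mul_zero]
    · refine absurd ?_ hx
      have h := conj_W_subset_A0 c.hP c.hG c.hM (inv_mem hm) hw hw1 hw2
      convert h using 1
      group

include hζi

theorem Ctx.alpha_norm : classInner (alphaFun μ ζ ε n i j) (alphaFun μ ζ ε n i j) =
    (2 : ℂ) + (n : ℂ) * n := by
  have h1 : classInner (μ (i * j)) (μ i) = 0 := classInner_isIrr_ne (c.hμ.irr _) (c.hμ.irr _)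
    fun e => c.left_ne hi hj hj1 (c.hμ.inj e)
  have h2 := c.inner_mu_irr hζ hζi (i * j)
  have h3 := c.inner_mu_irr hζ hζi i
  simp only [alphaFun, classInner_sub_left, classInner_sub_right, classInner_smul_left,
    classInner_smul_right, map_intCast, classInner_isIrr_self (c.hμ.irr _),
    classInner_isIrr_self hζi, h1, inner_comm_zero h1, h2, inner_comm_zero h2, h3,
    inner_comm_zero h3, mul_zero, sub_zero, zero_sub, mul_one]
  linear_combination c.eps_sq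

theorem Ctx.alpha_zeta : classInner (alphaFun μ ζ ε n i j) ζ = -(n : ℂ) := by
  simp only [alphaFun, classInner_sub_left, classInner_smul_left, classInner_isIrr_self hζi,
    c.inner_mu_irr hζ hζi, mul_zero, sub_zero, zero_sub, mul_one]

variable {S₁ : Set (↥M → ℂ)} (hS₁ : S₁ ⊆ calS M) {τ₁ : (↥M → ℂ) → G → ℂ}
  (h1 : IsLinearIsometryOn (zspan S₁) τ₁) (hag : ∀ α ∈ zspanOn S₁ {1}ᶜ, τ₁ α = tau M α)
  (hζS : ζ ∈ S₁)
include hS₁ h1 hag hζS

/-- The coefficient of `τ₁ φ` in terms of the one of `τ₁ ζ`. -/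
theorem Ctx.coef {φ : M → ℂ} (hφ : φ ∈ S₁) {k : ℤ} (hk : φ 1 = (k : ℂ) * Nat.card W₁) :
    classInner (tau M (alphaFun μ ζ ε n i j)) (τ₁ φ) = classInner (alphaFun μ ζ ε n i j) φ +
      (k : ℂ) * ((n : ℂ) + classInner (tau M (alphaFun μ ζ ε n i j)) (τ₁ ζ)) := by
  have hmem : (k • ζ - φ) ∈ zspanOn S₁ {1}ᶜ := Isometry.mem_zspanOn_compl_one
    (Submodule.sub_mem _ (Submodule.smul_mem _ k (Isometry.mem_zS hζS)) (Isometry.mem_zS hφ))
    (by rw [Pi.sub_apply, Pi.smul_apply, hζ1, hk, zsmul_eq_mul, sub_self])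
  have hmem' : (k • ζ - φ) ∈ zspanOn (calS M) {1}ᶜ := Isometry.zspanOn_mono _ hS₁ hmem
  have hiso := (S1500.result (typeA0 M) M (supportR M) c.dade (alphaFun μ ζ ε n i j)
    (isGen_isClassFunction (c.alpha_gen hζ)) fun x hx => c.alpha_supp hζ hζ1 hi hj hj1 hx).1
    (k • ζ - φ) (c.span hmem'.1).2.1 fun x hx => c.supp₀ hmem' hx
  have hτ : τ₁ (k • ζ - φ) = k • τ₁ ζ - τ₁ φ := by
    rw [Isometry.map_sub' (M := Isometry.zS S₁) h1
      (Submodule.smul_mem _ k (Isometry.mem_zS hζS)) (Isometry.mem_zS hφ),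
      h1.2.1 ζ (Isometry.mem_zS hζS) k]
  rw [show dadeIsometry (typeA0 M) M (supportR M) (k • ζ - φ) = tau M (k • ζ - φ) from rfl,
    ← hag _ hmem, hτ, classInner_sub_right, inner_smul_int_right, classInner_sub_right,
    inner_smul_int_right, c.alpha_zeta hζ hζi hζ1 hi hj hj1] at hiso
  rw [tau]
  linear_combination -hiso

omit hi hj hj1 in
/-- The image of an irreducible member is orthogonal to the family. -/
theorem Ctx.image_orth (hζS' : conjFun ζ ∈ S₁) (ω : ↥(W₁ ⊔ W₂) →* ℂˣ) :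
    classInner (τ₁ ζ) (η ω) = 0 := by
  classical
  have hm := diff_mem c.hsys hζ
  have hmem : ζ - conjFun ζ ∈ zspanOn S₁ {1}ᶜ := Isometry.mem_zspanOn_compl_one
    (Submodule.sub_mem _ (Isometry.mem_zS hζS) (Isometry.mem_zS hζS')) (Isometry.apply_one_eq_zero hm)
  have hcard := card_R c.hsys hζ (n := 1) (by rw [classInner_isIrr_self hζi, Nat.cast_one])
  obtain ⟨a, b, hab, hR⟩ := Finset.card_eq_two.1 hcard
  have hsum := c.hsys.sum_eq ζ hζ
  rw [hR, Finset.sum_pair hab, ← hag _ hmem] at hsum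
  have hself : classInner (τ₁ ζ) (τ₁ ζ) = 1 := by
    rw [h1.2.2.1 _ (Isometry.mem_zS hζS) _ (Isometry.mem_zS hζS), classInner_isIrr_self hζi]
  have hone : classInner (τ₁ ζ) (τ₁ (ζ - conjFun ζ)) = 1 := by
    rw [h1.2.2.1 _ (Isometry.mem_zS hζS) _ hmem.1, classInner_sub_right,
      classInner_isIrr_self hζi, conj_orth c.hsys hζ, sub_zero]
  rw [hsum, classInner_add_right] at hone
  have hz : IsSIrr (τ₁ ζ) := isSIrr_of_norm_one (h1.2.2.2 _ (Isometry.mem_zS hζS)) hself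
  have haR : a ∈ R ζ := by rw [hR]; simp
  have hbR : b ∈ R ζ := by rw [hR]; simp
  have ha : IsSIrr a := isSIrr_of_norm_one (c.hsys.virtual ζ hζ a haR) (normR c.hsys hζ a haR)
  have hb : IsSIrr b := isSIrr_of_norm_one (c.hsys.virtual ζ hζ b hbR) (normR c.hsys hζ b hbR)
  have hzero : ∀ {x}, x ∈ R ζ → τ₁ ζ = x ∨ τ₁ ζ = -x → classInner (τ₁ ζ) (η ω) = 0 := by
    rintro x hx (e | e) <;> rw [e]
    · exact c.hRirr ζ hζ hζi x hx ω
    · rw [classInner_neg_left, c.hRirr ζ hζ hζi x hx ω, neg_zero]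
  rcases hz.inner_cases ha with h | h
  · rcases hz.inner_cases hb with h' | h'
    · rw [h, h', add_zero] at hone
      exact absurd hone zero_ne_one
    · exact hzero hbR h'
  · exact hzero haR h

/-- With `m = 0` the image is exactly `ε (η i j - η i) - n τ₁ ζ`. -/
theorem Ctx.alpha_exact (hζS' : conjFun ζ ∈ S₁)
    (ha : classInner (tau M (alphaFun μ ζ ε n i j)) (τ₁ ζ) = -(n : ℂ)) :
    tau M (alphaFun μ ζ ε n i j) =
      (ε : ℂ) • (η (i * j) - η i) - (n : ℂ) • τ₁ ζ := by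
  classical
  haveI := Fintype.ofFinite (↥(W₁ ⊔ W₂) →* ℂˣ)
  set α := alphaFun μ ζ ε n i j with hαdef
  set z := τ₁ ζ with hzdef
  have hαc : IsClassFunction M α := isGen_isClassFunction (c.alpha_gen hζ (i := i) (j := j))
  have hX : IsGeneralizedCharacter G (tau M α) :=
    S1501.result _ _ _ c.dade α (c.alpha_gen hζ) fun x hx => c.alpha_supp hζ hζ1 hi hj hj1 hx
  have hXX : classInner (tau M α) (tau M α) = (2 : ℂ) + (n : ℂ) * n := by
    rw [tau, (S1500.result (typeA0 M) M (supportR M) c.dade α hαc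
      fun x hx => c.alpha_supp hζ hζ1 hi hj hj1 hx).1 α hαc
        fun x hx => c.alpha_supp hζ hζ1 hi hj hj1 hx]
    exact c.alpha_norm hζ hζi hζ1 hi hj hj1
  have hzgen : IsGeneralizedCharacter G z := h1.2.2.2 _ (Isometry.mem_zS hζS)
  have hzz : classInner z z = 1 := by
    rw [hzdef, h1.2.2.1 _ (Isometry.mem_zS hζS) _ (Isometry.mem_zS hζS), classInner_isIrr_self hζi]
  have horth := c.image_orth hζ hζi hζ1 hS₁ h1 hag hζS hζS'
  set X' := tau M α + (n : ℂ) • z with hX'def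
  set base := (ε : ℂ) • (η (i * j) - η i) with hbase
  have hX'gen : IsGeneralizedCharacter G X' := isGen_add hX (isGen_intSmul hzgen n)
  have hX'X' : classInner X' X' = 2 := by
    have hza : classInner z (tau M α) = -(n : ℂ) := by
      have := inner_comm_int (z := -n) (by rw [ha]; push_cast; ring)
      rw [this]; push_cast; ring
    simp only [hX'def, classInner_add_left, classInner_add_right, classInner_smul_left,
      classInner_smul_right, map_intCast, hXX, ha, hza, hzz]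
    ring
  have hbgen : IsGeneralizedCharacter G base :=
    isGen_intSmul (isGen_sub (c.eta_gen _) (c.eta_gen _)) ε
  set Y := X' - base with hYdef
  have hYgen : IsGeneralizedCharacter G Y := isGen_sub hX'gen hbgen
  have hYV : ∀ w : ↥(W₁ ⊔ W₂), (w : G) ∉ W₁ → (w : G) ∉ W₂ → Y w = 0 := by
    intro w n1 n2
    have hw0 : (w : G) ∈ typeA0 M := by
      have := conj_W_subset_A0 c.hP c.hG c.hM (one_mem M) w.2 n1 n2
      simpa using this
    have hz0 : z w = 0 :=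
      vanish_of_orth c.hP.selfNormalizing c.hη (isGen_isClassFunction hzgen) horth n1 n2
    simp only [hYdef, hX'def, hbase, Pi.sub_apply, Pi.add_apply, Pi.smul_apply, smul_eq_mul, hz0,
      c.tau_apply hαc hw0, c.hη.eq_on _ w n1 n2]
    rw [show (⟨(w : G), c.dade.subset hw0⟩ : M) = ⟨w, W_le c.hP w.2⟩ from rfl,
      hαdef, c.alpha_on hζ hi hj hj1 n2]
    ring
  choose e he using fun ω => classInner_gen_int hYgen (c.eta_gen ω)
  have hrel : ∀ φ ∈ lefts W₁ W₂, (e (φ * j) : ℂ) - e φ = (e j : ℂ) - e 1 := by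
    intro φ hφ
    have := CyclicTI.relation_of_vanish c.hP.selfNormalizing c.hη (isGen_isClassFunction hYgen)
      hYV (φ := φ) (ψ := j) (mem_lefts.1 hφ) hj
    rw [he, he, he, he] at this
    rw [this]; ring
  have hb1 : classInner base (η (i * j)) = (ε : ℂ) := by
    rw [hbase, classInner_smul_left, classInner_sub_left, c.hη.orthonormal, c.hη.orthonormal,
      if_pos rfl, if_neg (c.left_ne hi hj hj1).symm, sub_zero, mul_one]
  have hb2 : classInner base (η i) = -(ε : ℂ) := by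
    rw [hbase, classInner_smul_left, classInner_sub_left, c.hη.orthonormal, c.hη.orthonormal,
      if_pos rfl, if_neg (c.left_ne hi hj hj1), zero_sub, mul_neg, mul_one]
  have hb0 : ∀ ω, ω ≠ i * j → ω ≠ i → classInner base (η ω) = 0 := fun ω h2 h3 => by
    rw [hbase, classInner_smul_left, classInner_sub_left, c.hη.orthonormal, c.hη.orthonormal,
      if_neg (Ne.symm h2), if_neg (Ne.symm h3), sub_zero, mul_zero]
  -- Bessel on the two columns
  set u : (↥(W₁ ⊔ W₂) →* ℂˣ) → ℤ := fun ω =>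
    e ω + (if ω = i * j then ε else 0) - (if ω = i then ε else 0) with hu
  have hu' : ∀ ω, classInner X' (η ω) = (u ω : ℂ) := by
    intro ω
    have hXY : X' = Y + base := by rw [hYdef, sub_add_cancel]
    rw [hXY, classInner_add_left, he, hu]
    by_cases h2 : ω = i * j
    · subst h2
      simp [hb1, c.left_ne hi hj hj1]
    · by_cases h3 : ω = i
      · subst h3
        simp [hb2, h2]
        ring
      · simp [hb0 ω h2 h3, h2, h3]
  set s := (lefts W₁ W₂).image (fun φ => φ * j) ∪ lefts W₁ W₂ with hs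
  have hdis : Disjoint ((lefts W₁ W₂).image (fun φ => φ * j)) (lefts W₁ W₂) := by
    rw [Finset.disjoint_left]
    intro x hx hx'
    obtain ⟨φ, hφ, rfl⟩ := Finset.mem_image.1 hx
    exact hj1 (c.split.mul_inj (φ := φ) (φ' := φ * j) (ψ' := 1) (mem_lefts.1 hφ)
      (mem_lefts.1 hx') hj CyclicTI.isRight_one (MonoidHom.ext fun w => by simp)).2
  have hbes := bessel (s := s) (f := η) (n := fun _ => 1) (fun _ _ => Nat.one_pos)
    (fun a _ b _ => by rw [c.hη.orthonormal, Nat.cast_one]; split_ifs <;> rfl) (v := X') (u := u) fun ω _ => hu' ω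
  rw [hX'X', hs, Finset.sum_union hdis, Finset.sum_image (fun a ha b hb e =>
    (c.split.mul_inj (mem_lefts.1 ha) (mem_lefts.1 hb) hj hj e).1), ← Finset.sum_add_distrib] at hbes
  set D : ℤ := e j - e 1
  have hD : ∀ φ ∈ lefts W₁ W₂, e (φ * j) - e φ = D := fun φ hφ => by
    have := hrel φ hφ
    exact_mod_cast this
  have hbesZ : ∑ φ ∈ lefts W₁ W₂, (u (φ * j) ^ 2 + u φ ^ 2) ≤ 2 := by
    simp only [Nat.cast_one, div_one] at hbes
    have : ((∑ φ ∈ lefts W₁ W₂, (u (φ * j) ^ 2 + u φ ^ 2) : ℤ) : ℝ) ≤ ((2 : ℤ) : ℝ) := by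
      push_cast; simpa using hbes
    exact_mod_cast this
  have hterm : ∀ φ ∈ lefts W₁ W₂, u (φ * j) ^ 2 + u φ ^ 2 =
      e (φ * j) ^ 2 + e φ ^ 2 + (if φ = i then 2 * ε * D + 2 else 0) := by
    intro φ hφ
    have h2 : φ * j ≠ i := fun e' => hj1 (c.split.mul_inj (φ := φ) (φ' := i) (ψ' := 1)
      (mem_lefts.1 hφ) hi hj CyclicTI.isRight_one (e'.trans (MonoidHom.ext fun w => by simp))).2
    have h3 : φ ≠ i * j := fun e' => hj1 (c.split.mul_inj (φ := i) (φ' := φ) (ψ' := 1) hi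
      (mem_lefts.1 hφ) hj CyclicTI.isRight_one (e'.symm.trans (MonoidHom.ext fun w => by simp))).2
    by_cases hφi : φ = i
    · subst hφi
      have hεε : ε * ε = 1 := by rcases c.hc.sign with h | h <;> rw [h] <;> norm_num
      simp only [hu, if_neg h2, if_neg h3, ↓reduceIte, ← hD φ hφ]
      linear_combination 2 * hεε
    · have h4 : φ * j ≠ i * j := fun e' => hφi (c.split.mul_inj (mem_lefts.1 hφ) hi hj hj e').1
      simp only [hu, if_neg hφi, if_neg h2, if_neg h3, if_neg h4]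
      ring
  rw [Finset.sum_congr rfl hterm, Finset.sum_add_distrib, Finset.sum_ite_eq',
    if_pos (mem_lefts.2 hi)] at hbesZ
  have hnn : (Nat.card W₁ : ℤ) * |D| ≤ ∑ φ ∈ lefts W₁ W₂, (e (φ * j) ^ 2 + e φ ^ 2) := by
    rw [← card_lefts c.hP.selfNormalizing, ← nsmul_eq_mul]
    refine Finset.card_nsmul_le_sum _ _ _ fun φ hφ => ?_
    rw [← hD φ hφ]
    have habs2 : ∀ a : ℤ, |a| ≤ a ^ 2 := fun a => by
      rcases eq_or_ne a 0 with rfl | h
      · simp
      · nlinarith [abs_pos.2 h, sq_abs a]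
    have h1 := habs2 (e (φ * j))
    have h2 := habs2 (e φ)
    have h3 := abs_sub (e (φ * j)) (e φ)
    linarith
  have hw3 : 3 ≤ (Nat.card W₁ : ℤ) := by
    have h1 : Odd (Nat.card W₁) := c.hG.1.of_dvd_nat (card_subgroup_dvd_card W₁)
    have h2 : Nat.card W₁ ≠ 1 := fun e => c.hP.W₁_ne (card_eq_one.mp e)
    obtain ⟨k, hk⟩ := h1
    omega
  have habs : -(2 * ε * D) ≤ 2 * |D| := by
    rcases c.hc.sign with h | h <;> rw [h] <;> rcases abs_cases D with ⟨h', h''⟩ | ⟨h', h''⟩ <;> omega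
  have hD0 : D = 0 := by
    by_contra hne
    have h5 : 0 < |D| := abs_pos.2 hne
    nlinarith
  rw [hD0, mul_zero, zero_add] at hbesZ
  have hs0 : ∑ φ ∈ lefts W₁ W₂, (e (φ * j) ^ 2 + e φ ^ 2) = 0 := le_antisymm (by linarith)
    (Finset.sum_nonneg fun _ _ => add_nonneg (sq_nonneg _) (sq_nonneg _))
  have hall : ∀ φ ∈ lefts W₁ W₂, e (φ * j) ^ 2 + e φ ^ 2 = 0 :=
    (Finset.sum_eq_zero_iff_of_nonneg fun _ _ => add_nonneg (sq_nonneg _) (sq_nonneg _)).1 hs0
  obtain ⟨e1, e2⟩ := (add_eq_zero_iff_of_nonneg (sq_nonneg _) (sq_nonneg _)).1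
    (hall i (mem_lefts.2 hi))
  rw [sq_eq_zero_iff] at e1 e2
  have hX'base : classInner X' base = 2 := by
    have hcv : ∀ ω, classInner X' (η ω) = (e ω : ℂ) + classInner base (η ω) := fun ω => by
      rw [← he, ← classInner_add_left, hYdef, sub_add_cancel]
    rw [hbase, classInner_smul_right, classInner_sub_right, hcv, hcv, hb1, hb2, e1, e2,
      map_intCast, Int.cast_zero]
    linear_combination (2 : ℂ) * c.eps_sq
  have hbb : classInner base base = 2 := by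
    conv_lhs => arg 2; rw [hbase]
    rw [classInner_smul_right, classInner_sub_right, hb1, hb2, map_intCast]
    linear_combination (2 : ℂ) * c.eps_sq
  have hY0 : Y = 0 := eq_zero_of_re_le (by
    rw [hYdef, classInner_sub_left, classInner_sub_right, classInner_sub_right, hX'X', hX'base,
      inner_comm_int (z := 2) (by rw [hX'base]; norm_num), hbb]
    norm_num)
  rw [hYdef, sub_eq_zero] at hY0
  rw [← hY0, hX'def]
  abel

end Alpha

end Cfsg.Agent.OddChar.TypeP.Noncoherent
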