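import Cfsg.Agent.OddChar.TypeP.Noncoherent.Mu
import Cfsg.Agent.OddChar.Coherence.Basic
import Cfsg.Agent.OddChar.Coherence.System
import Cfsg.Agent.OddChar.Isometry
import Cfsg.Agent.OddChar.Induce
import Cfsg.Agent.OddChar.PrimeFrobBasic
import Cfsg.Agent.S1500
import Cfsg.Agent.S1501

/-!
# The characters of a maximal subgroup with `M_s = M'`
-/

set_option autoImplicit false
set_option linter.unusedSectionVars false
set_option linter.style.haveILetI false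

namespace Cfsg.Agent.OddChar.TypeP.Noncoherent

open Cfsg Subgroup
open Cfsg.Agent.Characters
open scoped ComplexConjugate

universe u

variable {G : Type u} [Group G] {M W₁ U W₂ : Subgroup G}

instance derivedIn_normal (M : Subgroup G) : (derivedIn M).Normal :=
  (normal_subgroupOf_iff_le_normalizer (commutator_le_self M)).2
    (OddLocal.Coprime.le_normalizer_commutator_self le_normalizer)

theorem mem_derivedIn {x : M} : x ∈ derivedIn M ↔ (x : G) ∈ ⁅M, M⁆ := Iff.rfl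

theorem card_derivedIn : Nat.card (derivedIn M) = Nat.card (⁅M, M⁆ : Subgroup G) :=
  Nat.card_congr (subgroupOfEquivOfLe (commutator_le_self M)).toEquiv

variable [Fintype G]

theorem index_derivedIn [Fintype M] (hP : IsTypePWith M W₁ U W₂) :
    (derivedIn M).index = Nat.card W₁ := by
  have h := (derivedIn M).card_mul_index
  rw [card_derivedIn, card_eq hP] at h
  exact Nat.eq_of_mul_eq_mul_left Nat.card_pos h

/-- Everything used about `(M, μ, η, R)`. -/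
structure Ctx (M W₁ U W₂ : Subgroup G) [Fintype M] (η : (↥(W₁ ⊔ W₂) →* ℂˣ) → G → ℂ)
    (μ : (↥(W₁ ⊔ W₂) →* ℂˣ) → ↥M → ℂ) (δ : (↥(W₁ ⊔ W₂) →* ℂˣ) → ℂ)
    (R : (↥M → ℂ) → Finset (G → ℂ)) (d : ℕ) (ε n : ℤ) : Prop where
  hG : IsMinSimpleOddOrder G
  hM : IsCoatom M
  hP : IsTypePWith M W₁ U W₂
  hcore : typeCore M = ⁅M, M⁆
  hp : (Nat.card W₂).Prime
  hη : IsCyclicTIFamily W₁ W₂ η
  hμ : MuData M W₁ W₂ μ δ
  hc : MuConst M W₁ W₂ μ δ d ε n
  hsys : IsCoherenceSystem (calS M) (tau M) R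
  hRirr : ∀ φ ∈ calS M, IsIrrCharacter ↥M φ → ∀ a ∈ R φ, ∀ ω, classInner a (η ω) = 0
  hcol : ∀ j ∈ rightSet W₁ W₂, j ≠ 1 → colSum μ j ∈ calS M

variable [Fintype M] {η : (↥(W₁ ⊔ W₂) →* ℂˣ) → G → ℂ} {μ : (↥(W₁ ⊔ W₂) →* ℂˣ) → ↥M → ℂ}
  {δ : (↥(W₁ ⊔ W₂) →* ℂˣ) → ℂ} {R : (↥M → ℂ) → Finset (G → ℂ)} {d : ℕ} {ε n : ℤ}

/-- With `M_s = M'` the set `S` is everything induced from `M'`. -/
theorem calS_eq_above (hcore : typeCore M = ⁅M, M⁆) :
    calS M = inducedIrrAbove (derivedIn M) ⊥ := by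
  rw [calS, sdiff_eq_left, hcore, Set.disjoint_left]
  rintro φ - ⟨θ, hθ, hne, hker, -⟩
  refine hne (funext fun a => ?_)
  obtain ⟨k, hk, hk1⟩ := irr_one_pos hθ
  have hconst : θ = fun _ => θ 1 := funext fun x => hker x x.2
  haveI := Fintype.ofFinite ↥(derivedIn M)
  have h1 := classInner_isIrr_self hθ
  rw [classInner_def, hconst] at h1
  simp only [Finset.sum_const, Finset.card_univ, nsmul_eq_mul, ← Nat.card_eq_fintype_card,
    hk1, Complex.conj_natCast] at h1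
  rw [inv_mul_cancel_left₀ natCard_ne_zero] at h1
  have : k * k = 1 := by exact_mod_cast h1
  rw [hker a a.2, hk1, Nat.eq_one_of_mul_eq_one_left this, Nat.cast_one]

section Members

variable (c : Ctx M W₁ U W₂ η μ δ R d ε n)
include c

theorem Ctx.dade : DadeHypothesis (typeA0 M) M (supportR M) :=
  (OddLocal.DadeSets.main c.hG c.hM _ (Or.inr (Or.inr rfl))).2

theorem Ctx.tau_apply {α : M → ℂ} (hα : IsClassFunction M α) {a : G} (ha : a ∈ typeA0 M) :
    tau M α a = α ⟨a, c.dade.subset ha⟩ :=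
  Dade.apply_eq c.dade hα ha (one_mem _) (x := 1) (by simp)

theorem Ctx.tau_off {α : M → ℂ} {g : G}
    (hg : g ∉ Dade.support (typeA0 M) (supportR M)) : tau M α g = 0 :=
  Dade.apply_eq_zero_of_notMem hg

theorem Ctx.member {φ : M → ℂ} (hφ : φ ∈ calS M) :
    IsGeneralizedCharacter M φ ∧ IsClassFunction M φ ∧ ∀ x, x ∉ derivedIn M → φ x = 0 := by
  have hg := isGen_of_isCharacter (c.hsys.isCharacter φ hφ)
  refine ⟨hg, isGen_isClassFunction hg, fun x hx => ?_⟩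
  rw [calS_eq_above c.hcore] at hφ
  obtain ⟨θ, -, -, -, rfl⟩ := hφ
  exact Induce.indFun_apply_normal_notMem _ θ hx

theorem Ctx.span {α : M → ℂ} (hα : α ∈ zspan (calS M)) :
    IsGeneralizedCharacter M α ∧ IsClassFunction M α ∧ ∀ x, x ∉ derivedIn M → α x = 0 := by
  have h : IsGeneralizedCharacter M α ∧ ∀ x, x ∉ derivedIn M → α x = 0 := by
    refine Submodule.span_induction (fun x hx => ⟨(c.member hx).1, (c.member hx).2.2⟩)
      ⟨isGen_zero, fun _ _ => rfl⟩ ?_ ?_ hα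
    · exact fun a b _ _ ha hb =>
        ⟨isGen_add ha.1 hb.1, fun x hx => by simp [ha.2 x hx, hb.2 x hx]⟩
    · intro k a _ ha
      refine ⟨?_, fun x hx => by simp [ha.2 x hx]⟩
      rw [← Int.cast_smul_eq_zsmul ℂ k a]
      exact isGen_intSmul ha.1 k
  exact ⟨h.1, isGen_isClassFunction h.1, h.2⟩

/-- Combinations of degree zero live on `A = M' - 1`. -/
theorem Ctx.supp {α : M → ℂ} (hα : α ∈ zspanOn (calS M) {1}ᶜ) {x : M}
    (hx : (x : G) ∉ typeA M) : α x = 0 := by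
  rw [typeA_eq_core c.hP c.hG c.hM c.hcore] at hx
  by_cases h1 : x = 1
  · rw [h1]; exact Isometry.apply_one_eq_zero hα
  · exact (c.span hα.1).2.2 x fun h => hx ⟨h, fun e => h1 (Subtype.ext e)⟩

theorem Ctx.supp₀ {α : M → ℂ} (hα : α ∈ zspanOn (calS M) {1}ᶜ) {x : M}
    (hx : (x : G) ∉ typeA0 M) : α x = 0 := c.supp hα fun h => hx (Or.inl h)

/-- Degrees of members are multiples of `|W₁|`. -/
theorem Ctx.degree {φ : M → ℂ} (hφ : φ ∈ calS M) : ∃ k : ℤ, φ 1 = (k : ℂ) * Nat.card W₁ := by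
  rw [calS_eq_above c.hcore] at hφ
  obtain ⟨θ, hθ, -, -, rfl⟩ := hφ
  obtain ⟨k, -, hk⟩ := irr_one_pos hθ
  exact ⟨k, by rw [indFun_one, hk, index_derivedIn c.hP, Int.cast_natCast, mul_comm]⟩

theorem Ctx.setup :
    PrimeFrob.Setup (derivedIn M) (W₁.subgroupOf M) (W₂.subgroupOf M) := by
  have hW1 := W₁_le c.hP
  have hW2 : W₂ ≤ M := (W₂_le_derived c.hP).trans (commutator_le_self M)
  have e1 : Nat.card (W₁.subgroupOf M) = Nat.card W₁ :=
    Nat.card_congr (subgroupOfEquivOfLe hW1).toEquiv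
  refine ⟨?_, ?_, ?_, ?_, ?_, ?_, ?_, fun x hx => W₂_le_derived c.hP hx, ?_, ?_⟩
  · rw [eq_bot_iff]
    exact fun x hx => mem_bot.mpr (Subtype.ext
      (mem_bot.mp (c.hP.W₁_compl.2.2.1.le (mem_inf.mpr ⟨hx.1, hx.2⟩))))
  · refine eq_top_iff.mpr fun x _ => ?_
    obtain ⟨a, ha, b, hb, e⟩ := c.hP.W₁_compl.2.2.2 x x.2
    have : x = (⟨a, commutator_le_self M ha⟩ : M) * ⟨b, hW1 hb⟩ := Subtype.ext e
    rw [this]
    exact mul_mem_sup (show (⟨a, _⟩ : M) ∈ derivedIn M from ha)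
      (show (⟨b, _⟩ : M) ∈ W₁.subgroupOf M from hb)
  · intro e
    exact c.hP.W₁_ne (by rw [← card_eq_one, ← e1, e, card_bot])
  · have := c.hP.W₁_cyclic
    exact isCyclic_of_surjective _ (subgroupOfEquivOfLe hW1).symm.surjective
  · rw [e1]
    exact c.hP.W₁_hall
  · intro e
    exact c.hP.selfNormalizing.2.1 (by
      rw [← card_eq_one, ← Nat.card_congr (subgroupOfEquivOfLe hW2).toEquiv, e, card_bot])
  · have := c.hP.selfNormalizing.2.2.2.2.1
    have : IsCyclic W₂ := Subgroup.isCyclic_of_le (le_sup_right : W₂ ≤ W₁ ⊔ W₂)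
    exact isCyclic_of_surjective _ (subgroupOfEquivOfLe hW2).symm.surjective
  · intro x hx hx1
    ext y
    have := SetLike.ext_iff.mp (c.hP.W₂_centralizer (x : G) hx fun e => hx1 (Subtype.ext e)) (y : G)
    simp only [mem_inf, mem_centralizer_singleton_iff] at this ⊢
    rw [mem_subgroupOf, ← this]
    exact and_congr_right fun _ => Subtype.ext_iff
  · rw [← subgroupOf_sup hW1 hW2, Nat.card_congr (subgroupOfEquivOfLe (W_le c.hP)).toEquiv]
    exact c.hG.1.of_dvd_nat (card_subgroup_dvd_card _)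

/-- An irreducible member of degree `|W₁|`. -/
theorem Ctx.exists_zeta : ∃ ζ ∈ calS M, IsIrrCharacter ↥M ζ ∧ ζ 1 = (Nat.card W₁ : ℂ) := by
  classical
  have hne : derivedIn M ≠ ⊥ := fun e => c.hP.selfNormalizing.2.1 (eq_bot_iff.mpr fun x hx => by
    have h : (⟨x, commutator_le_self M (W₂_le_derived c.hP hx)⟩ : M) ∈ derivedIn M :=
      W₂_le_derived c.hP hx
    rw [e, mem_bot] at h
    exact mem_bot.mpr (congrArg Subtype.val h))
  haveI : Nontrivial ↥(derivedIn M) := (Subgroup.nontrivial_iff_ne_bot _).2 hne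
  haveI : Group.IsSolvable M := OddLocal.Transitivity.isSolvable_of_ne_top c.hG c.hM.1
  have hidx : 1 < (commutator ↥(derivedIn M)).index := by
    have h0 : (commutator ↥(derivedIn M)).index ≠ 0 := index_ne_zero_of_finite
    have h1 : (commutator ↥(derivedIn M)).index ≠ 1 := fun e => by
      rw [index_eq_one] at e
      exact (Group.IsSolvable.commutator_lt_top_of_nontrivial ↥(derivedIn M)).ne e
    omega
  rw [← card_linear_hom] at hidx
  haveI : Finite (↥(derivedIn M) →* ℂˣ) := Nat.finite_of_card_ne_zero (by omega)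
  haveI := Finite.one_lt_card_iff_nontrivial.1 hidx
  obtain ⟨θ, hθ1⟩ := exists_ne (1 : ↥(derivedIn M) →* ℂˣ)
  set f : derivedIn M → ℂ := fun a => (θ a : ℂ) with hf
  have hfi : IsIrrCharacter ↥(derivedIn M) f := isIrrCharacter_linear θ
  have hW2 : ∀ b : derivedIn M, ((b : M) : G) ∈ W₂ → θ b = 1 := fun b hb => by
    have h2 : ((b : M) : G) ∈ ⁅⁅M, M⁆, ⁅M, M⁆⁆ := (mem_inf.mp (c.hP.W₂_le hb)).2
    refine Abelianization.commutator_subset_ker θ ?_
    have h3 : (⁅⁅M, M⁆, ⁅M, M⁆⁆ : Subgroup G) =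
        ((commutator ↥(derivedIn M)).map (derivedIn M).subtype).map M.subtype := by
      rw [map_subtype_commutator, map_commutator, derivedIn,
        subgroupOf_map_subtype, inf_eq_left.mpr (commutator_le_self M)]
    rw [h3] at h2
    exact (mem_map_iff_mem (derivedIn M).subtype_injective).1
      ((mem_map_iff_mem M.subtype_injective).1 h2)
  obtain ⟨x, hx, hx1⟩ := CyclicTI.exists_mem_ne_one c.hP.W₁_ne
  have hnf : ∃ y ∈ W₁.subgroupOf M, ¬ PrimeFrob.Fix (derivedIn M) f y := by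
    refine ⟨⟨x, W₁_le c.hP hx⟩, hx, fun hfix => hθ1 (MonoidHom.ext fun k => ?_)⟩
    obtain ⟨a, ha, b, hb, hbx, hab⟩ := Cfsg.Agent.S1496.result ⁅M, M⁆ x
      (derived_le_normalizer M (W₁_le c.hP hx))
      ((coprime_derived c.hP).coprime_dvd_left (orderOf_dvd_natCard W₁ hx)) ((k : M) : G) k.2
    have hb2 : b ∈ W₂ := by
      rw [← c.hP.W₂_centralizer x hx hx1]
      exact mem_inf.mpr ⟨hb, mem_centralizer_singleton_iff.mpr hbx⟩
    set A : derivedIn M := ⟨⟨a, commutator_le_self M ha⟩, ha⟩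
    set B : derivedIn M := ⟨⟨b, commutator_le_self M hb⟩, hb⟩
    set A' : derivedIn M :=
      (MulAut.conjNormal (⟨x, W₁_le c.hP hx⟩ : M) : MulAut ↥(derivedIn M)) A
    have hA' : θ A' = θ A := Units.ext (congrFun hfix A)
    have hk : k = A⁻¹ * B * A' := by
      refine Subtype.ext (Subtype.ext ?_)
      show ((k : M) : G) = a⁻¹ * b * (x * a * x⁻¹)
      calc ((k : M) : G) = a⁻¹ * (a * ((k : M) * x) * a⁻¹) * a * x⁻¹ := by group
        _ = a⁻¹ * b * (x * a * x⁻¹) := by rw [hab]; group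
    rw [hk, map_mul, map_mul, map_inv, hA', hW2 B hb2, mul_one, inv_mul_cancel, MonoidHom.one_apply]
  refine ⟨indFun (derivedIn M) f, ?_, PrimeFrob.irr_of_not_fix c.setup hfi hnf, ?_⟩
  · rw [calS_eq_above c.hcore]
    refine ⟨f, hfi, fun e => hθ1 (MonoidHom.ext fun a => Units.ext (congrFun e a)), fun a ha => ?_,
      rfl⟩
    have : a = 1 := Subtype.ext (mem_bot.mp ha)
    rw [this]
  · rw [indFun_one, index_derivedIn c.hP, hf]
    simp

/-- Irreducible members differ from every `μ`. -/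
theorem Ctx.ne_mu {φ : M → ℂ} (hφ : φ ∈ calS M) (ω : ↥(W₁ ⊔ W₂) →* ℂˣ) : μ ω ≠ φ := by
  obtain ⟨a, ha, ha1⟩ := CyclicTI.exists_mem_ne_one c.hP.W₁_ne
  intro e
  have ha2 : a ∉ W₂ := fun h => ha1 (by
    have : a ∈ W₁ ⊓ W₂ := mem_inf.mpr ⟨ha, h⟩
    rwa [c.hP.selfNormalizing.2.2.1, mem_bot] at this)
  have h0 : φ ⟨a, W₁_le c.hP ha⟩ = 0 := (c.member hφ).2.2 _ fun h => ha1 (by
    have : a ∈ ⁅M, M⁆ ⊓ W₁ := mem_inf.mpr ⟨h, ha⟩
    rwa [c.hP.W₁_compl.2.2.1, mem_bot] at this)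
  rw [← e, c.hμ.eq_on ω ⟨a, W₁_le c.hP ha⟩ (mem_sup_left ha) ha2] at h0
  rcases mul_eq_zero.1 h0 with h | h
  · rcases c.hμ.sign ω with h' | h' <;> rw [h'] at h <;> norm_num at h
  · exact Units.ne_zero _ h

theorem Ctx.inner_mu_irr {φ : M → ℂ} (hφ : φ ∈ calS M) (hφi : IsIrrCharacter ↥M φ)
    (ω : ↥(W₁ ⊔ W₂) →* ℂˣ) : classInner (μ ω) φ = 0 :=
  classInner_isIrr_ne (c.hμ.irr ω) hφi (c.ne_mu hφ ω)

end Members

end Cfsg.Agent.OddChar.TypeP.Noncoherent
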