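import Cfsg.Agent.OddChar.TypeP.Noncoherent.Setting

/-!
# Counting in a maximal subgroup of type P and in its partner
-/

set_option autoImplicit false
set_option linter.unusedSectionVars false

namespace Cfsg.Agent.OddChar.TypeP.Noncoherent

open Cfsg Subgroup
open Cfsg.Agent.OddLocal

universe u

variable {G : Type u} [Group G] [Finite G] {M W₁ U W₂ : Subgroup G}

theorem card_W (hP : IsTypePWith M W₁ U W₂) :
    Nat.card ↥(W₁ ⊔ W₂) = Nat.card W₁ * Nat.card W₂ := by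
  refine Basics.card_eq_of_isCompl' le_sup_left le_sup_right hP.selfNormalizing.2.2.1 fun w hw => ?_
  obtain ⟨a, b, ha, hb, e⟩ := (CyclicTI.split_of hP.selfNormalizing).exists_mul ⟨w, hw⟩
  exact ⟨a, ha, b, hb, congrArg Subtype.val e⟩

/-- `|A₀(M)| ≤ (|M'| - 1) + |M : W| (|W₁| - 1)(|W₂| - 1)`. -/
theorem card_typeA0_le (hG : IsMinSimpleOddOrder G) (hM : IsCoatom M)
    (hP : IsTypePWith M W₁ U W₂) (hcore : typeCore M = ⁅M, M⁆) :
    ∃ N : ℕ, N * Nat.card W₂ = Nat.card (⁅M, M⁆ : Subgroup G) ∧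
      ((typeA0 M).ncard : ℝ) ≤ ((Nat.card (⁅M, M⁆ : Subgroup G) : ℝ) - 1) +
        (N : ℝ) * (((Nat.card W₁ : ℝ) - 1) * ((Nat.card W₂ : ℝ) - 1)) := by
  classical
  set W := W₁ ⊔ W₂ with hWdef
  have hW := hP.selfNormalizing
  set N := (W.subgroupOf M).index with hN
  have hNp : N * Nat.card W₂ = Nat.card (⁅M, M⁆ : Subgroup G) := by
    have h := (W.subgroupOf M).card_mul_index
    rw [Nat.card_congr (subgroupOfEquivOfLe (W_le hP)).toEquiv, card_eq hP, card_W hP, ← hN] at h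
    refine Nat.eq_of_mul_eq_mul_left (Nat.card_pos : 0 < Nat.card W₁) ?_
    rw [mul_comm (Nat.card W₁) (Nat.card (⁅M, M⁆ : Subgroup G)), ← h]
    ring
  refine ⟨N, hNp, ?_⟩
  set S : Set G := (W : Set G) \ ((W₁ : Set G) ∪ W₂) with hS
  have hScard : (S.ncard : ℝ) = ((Nat.card W₁ : ℝ) - 1) * ((Nat.card W₂ : ℝ) - 1) := by
    have h1 : S.ncard + ((W₁ : Set G) ∪ W₂).ncard = Nat.card W₁ * Nat.card W₂ := by
      rw [Set.ncard_sdiff_add_ncard_of_subset (Set.union_subset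
        (fun x hx => mem_sup_left hx) fun x hx => mem_sup_right hx), ← Nat.card_coe_set_eq]
      exact card_W hP
    have h2 := Set.ncard_union_add_ncard_inter (W₁ : Set G) (W₂ : Set G)
    rw [← coe_inf, hW.2.2.1, coe_bot, Set.ncard_singleton, ← Nat.card_coe_set_eq (W₁ : Set G),
      ← Nat.card_coe_set_eq (W₂ : Set G)] at h2
    have h1' : (S.ncard : ℝ) + (((W₁ : Set G) ∪ W₂).ncard : ℝ) =
        (Nat.card W₁ : ℝ) * (Nat.card W₂ : ℝ) := by exact_mod_cast h1
    have h2' : (((W₁ : Set G) ∪ W₂).ncard : ℝ) + 1 =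
        (Nat.card W₁ : ℝ) + (Nat.card W₂ : ℝ) := by exact_mod_cast h2
    linarith
  let f : (↥M ⧸ W.subgroupOf M) × ↥S → G := fun q => ((q.1.out : M) : G) * q.2 * ((q.1.out : M) : G)⁻¹
  have hsub : typeA0 M ⊆ (((⁅M, M⁆ : Subgroup G) : Set G) \ {1}) ∪ Set.range f := by
    intro v hv
    rcases typeA0_cases hP hG hM hv with hv | ⟨m, hm, w, hw, hw1, hw2, rfl⟩
    · rw [typeA_eq_core hP hG hM hcore] at hv
      exact Or.inl hv
    · refine Or.inr ⟨(QuotientGroup.mk (⟨m, hm⟩ : M), ⟨w, hw, by simp [hw1, hw2]⟩), ?_⟩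
      obtain ⟨⟨z, hz⟩, he⟩ := QuotientGroup.mk_out_eq_mul (W.subgroupOf M) (⟨m, hm⟩ : M)
      simp only [f, he]
      show m * (z : G) * w * (m * (z : G))⁻¹ = _
      have hc : (z : G) * w = w * z :=
        congrArg Subtype.val (CyclicTI.comm_of hW ⟨(z : G), hz⟩ ⟨w, hw⟩)
      rw [mul_assoc m, hc]
      group
  have hA : ((((⁅M, M⁆ : Subgroup G) : Set G) \ {1}).ncard : ℝ) =
      (Nat.card (⁅M, M⁆ : Subgroup G) : ℝ) - 1 := by
    have h := Set.ncard_sdiff_singleton_add_one (s := ((⁅M, M⁆ : Subgroup G) : Set G)) (one_mem _)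
    rw [← Nat.card_coe_set_eq ((⁅M, M⁆ : Subgroup G) : Set G)] at h
    have h' : ((((⁅M, M⁆ : Subgroup G) : Set G) \ {1}).ncard : ℝ) + 1 =
        (Nat.card (⁅M, M⁆ : Subgroup G) : ℝ) := by exact_mod_cast h
    linarith
  have hR : (Set.range f).ncard ≤ N * S.ncard := by
    rw [hN, Subgroup.index, ← Nat.card_coe_set_eq S, ← Nat.card_prod, ← Nat.card_coe_set_eq]
    exact Finite.card_range_le f
  rw [← hA, ← hScard]
  have := (Set.ncard_le_ncard hsub (Set.toFinite _)).trans (Set.ncard_union_le _ _)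
  have h' : (typeA0 M).ncard ≤
      (((⁅M, M⁆ : Subgroup G) : Set G) \ {1}).ncard + N * S.ncard := by omega
  exact_mod_cast h'

/-- The complement `V` of the partner has at least five elements. -/
theorem five_le_card (hG : IsMinSimpleOddOrder G) {T V : Subgroup G}
    (hTP : IsTypePWith T W₂ V W₁) (hV : V ≠ ⊥) (hp : (Nat.card W₂).Prime) :
    5 ≤ Nat.card V := by
  classical
  obtain ⟨⟨v, hv⟩, hv1'⟩ : ∃ v : V, v ≠ 1 := by
    haveI := (Subgroup.nontrivial_iff_ne_bot V).2 hV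
    exact exists_ne 1
  have hv1 : v ≠ 1 := fun e => hv1' (Subtype.ext e)
  have hconj : ∀ w : W₂, (w : G) * v * (w : G)⁻¹ ∈ V := fun w =>
    (mem_normalizer_iff.mp (hTP.U_normal w.2) v).mp hv
  have hinj : Function.Injective fun w : W₂ => (⟨(w : G) * v * (w : G)⁻¹, hconj w⟩ : V) := by
    intro w w' e
    have e' : (w : G) * v * (w : G)⁻¹ = (w' : G) * v * (w' : G)⁻¹ := congrArg Subtype.val e
    by_contra hne
    refine hv1 ?_
    have hmem : v ∈ ⁅T, T⁆ ⊓ centralizer ({((w' : G))⁻¹ * w} : Set G) := by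
      refine mem_inf.mpr ⟨hTP.U_compl.2.1 hv, mem_centralizer_singleton_iff.mpr ?_⟩
      calc v * ((w' : G)⁻¹ * w) = (w' : G)⁻¹ * (w' * v * (w' : G)⁻¹) * w := by group
        _ = (w' : G)⁻¹ * (w * v * (w : G)⁻¹) * w := by rw [e']
        _ = (w' : G)⁻¹ * w * v := by group
    rw [hTP.W₂_centralizer _ (mul_mem (inv_mem w'.2) w.2) fun h => hne
      (Subtype.ext (inv_mul_eq_one.mp h).symm)] at hmem
    have hbot : v ∈ fittingHallOf T ⊓ V := mem_inf.mpr ⟨(mem_inf.mp (hTP.W₂_le hmem)).1, hv⟩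
    rwa [hTP.U_compl.2.2.1, mem_bot] at hbot
  have hnot : ¬ Function.Surjective fun w : W₂ => (⟨(w : G) * v * (w : G)⁻¹, hconj w⟩ : V) := by
    intro hs
    obtain ⟨w, hw⟩ := hs 1
    exact hv1 (conj_eq_one_iff.mp (congrArg Subtype.val hw))
  have hlt : Nat.card W₂ < Nat.card V := by
    haveI := Fintype.ofFinite W₂
    haveI := Fintype.ofFinite V
    rw [Nat.card_eq_fintype_card, Nat.card_eq_fintype_card]
    exact Fintype.card_lt_of_injective_not_surjective _ hinj hnot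
  obtain ⟨k, hk⟩ := hG.1.of_dvd_nat (card_subgroup_dvd_card V)
  obtain ⟨l, hl⟩ := hG.1.of_dvd_nat (card_subgroup_dvd_card W₂)
  have := hp.two_le
  omega

/-- The order of the partner. -/
theorem card_partner {T V : Subgroup G} (hTP : IsTypePWith T W₂ V W₁) :
    Nat.card T = Nat.card (fittingHallOf T) * Nat.card V * Nat.card W₂ := by
  rw [card_eq hTP, Basics.card_eq_of_isCompl' hTP.U_compl.1 hTP.U_compl.2.1 hTP.U_compl.2.2.1
    hTP.U_compl.2.2.2]

end Cfsg.Agent.OddChar.TypeP.Noncoherent
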